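import Groth.Agent.Flat2A.ImpurityBC
import Groth.Agent.Flat2A.FiberEquiv
import Groth.Agent.Flat2B.BCTools
import Groth.Agent.Fdesc.AssFlatAlg

set_option autoImplicit false
universe u

/-!
# Impurities and closed immersions of the total space
-/

namespace Groth.Agent.FlatMor.K255.ImpSurj

open TensorProduct Flat2A.ImpurityBC

theorem ass_fiberMod_iff {A₂ B₂ C₂ N₂ : Type u} [CommRing A₂] [CommRing B₂] [CommRing C₂] [AddCommGroup N₂]
    [Algebra A₂ B₂] [Algebra B₂ C₂] [Algebra A₂ C₂] [IsScalarTower A₂ B₂ C₂] [Module A₂ N₂] [Module B₂ N₂]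
    [Module C₂ N₂] [IsScalarTower A₂ B₂ N₂] [IsScalarTower A₂ C₂ N₂] [IsScalarTower B₂ C₂ N₂]
    (hs : Function.Surjective (algebraMap B₂ C₂)) (t : Ideal A₂) [t.IsPrime] (P : Ideal C₂) [P.IsPrime] :
    P.comap (algebraMap B₂ C₂) ∈ associatedPrimes B₂ (FlatCA.fiberMod t B₂ N₂) ↔
      P ∈ associatedPrimes C₂ (FlatCA.fiberMod t C₂ N₂) := by
  rw [LinearEquiv.AssociatedPrimes.eq (Flat2A.FiberEquiv.fiberModEquiv B₂ t N₂),
    LinearEquiv.AssociatedPrimes.eq (Flat2A.FiberEquiv.fiberModEquiv C₂ t N₂)]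
  exact Fdesc.AssFlatAlg.comap_mem_associatedPrimes_iff hs P

theorem ker_le_of_mem {B₂ C₂ N₂ : Type u} [CommRing B₂] [CommRing C₂] [AddCommGroup N₂]
    [Algebra B₂ C₂] [Module B₂ N₂] [Module C₂ N₂] [IsScalarTower B₂ C₂ N₂] (P : Ideal B₂)
    (h : P ∈ associatedPrimes B₂ N₂) : RingHom.ker (algebraMap B₂ C₂) ≤ P := by
  obtain ⟨-, y, hy⟩ := h
  intro b hb
  rw [hy]
  apply Ideal.le_radical
  rw [Submodule.mem_colon_singleton, ← algebraMap_smul C₂, (RingHom.mem_ker).mp hb, zero_smul]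
  exact Submodule.zero_mem _

theorem imp_iff_aux {A B C N A₂ B₂ C₂ N₂ : Type u} [CommRing A] [CommRing B] [CommRing C] [AddCommGroup N]
    [CommRing A₂] [CommRing B₂] [CommRing C₂] [AddCommGroup N₂] [Algebra A B] [Algebra B C] [Algebra A C]
    [IsScalarTower A B C] [Algebra.FiniteType A B] [Algebra.FiniteType A C] [Module B N] [Module C N]
    [IsScalarTower B C N]
    [Algebra A A₂] [Algebra A B₂] [Algebra A C₂] [Algebra B B₂] [Algebra B C₂] [Algebra C C₂] [Algebra A₂ B₂]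
    [Algebra B₂ C₂] [Algebra A₂ C₂] [IsScalarTower A A₂ B₂] [IsScalarTower A A₂ C₂] [IsScalarTower A B B₂]
    [IsScalarTower A C C₂] [IsScalarTower B C C₂] [IsScalarTower B B₂ C₂] [IsScalarTower A₂ B₂ C₂]
    [Module A₂ N₂] [Module B₂ N₂] [Module C₂ N₂] [IsScalarTower A₂ B₂ N₂] [IsScalarTower A₂ C₂ N₂]
    [IsScalarTower B₂ C₂ N₂] [Module C N₂] [IsScalarTower C C₂ N₂] [Module B N₂] [IsScalarTower B B₂ N₂]
    [IsScalarTower B C N₂]
    (hBC : Function.Surjective (algebraMap B C)) (h₂ : Algebra.IsPushout A B A₂ B₂)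
    (h₃ : Algebra.IsPushout B C B₂ C₂) (h₄ : Algebra.IsPushout A C A₂ C₂) (f : N →ₗ[C] N₂) (hf : IsBaseChange C₂ f)
    (t' t : Ideal A₂) [t'.IsPrime] [t.IsPrime] :
    Imp A C N A₂ t' t ↔ Imp A B N A₂ t' t := by
  have hs : Function.Surjective (algebraMap B₂ C₂) := Flat2B.BCTools.surjective_of_isPushout B C B₂ C₂ hBC
  have hf' : IsBaseChange B₂ (f.restrictScalars B) := Flat2B.BCTools.isBaseChange_of_isPushout f hf
  rw [imp_iff_of_model h₄ f hf, imp_iff_of_model h₂ (f.restrictScalars B) hf']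
  refine and_congr_right fun _ => ?_
  constructor
  · rintro ⟨P, hP, hno⟩
    have hPp : P.IsPrime := hP.1
    refine ⟨P.comap (algebraMap B₂ C₂), (ass_fiberMod_iff hs t' P).mpr hP, fun P' _ hle hov => ?_⟩
    have hker : RingHom.ker (algebraMap B₂ C₂) ≤ P' := le_trans (Ideal.comap_mono bot_le) hle
    have hcm : (P'.map (algebraMap B₂ C₂)).comap (algebraMap B₂ C₂) = P' := by
      rw [Ideal.comap_map_of_surjective _ hs, ← RingHom.ker_eq_comap_bot]
      exact sup_eq_left.mpr hker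
    have hp : (P'.map (algebraMap B₂ C₂)).IsPrime := Ideal.map_isPrime_of_surjective hs hker
    refine hno (P'.map (algebraMap B₂ C₂)) ?_ ?_
    · rw [← Ideal.map_comap_of_surjective _ hs P]
      exact Ideal.map_mono hle
    · constructor
      rw [Ideal.under_def, IsScalarTower.algebraMap_eq A₂ B₂ C₂, ← Ideal.comap_comap, hcm]
      exact hov.over
  · rintro ⟨P, hP, hno⟩
    have hPp : P.IsPrime := hP.1
    have hker : RingHom.ker (algebraMap B₂ C₂) ≤ P := by
      rw [LinearEquiv.AssociatedPrimes.eq (Flat2A.FiberEquiv.fiberModEquiv B₂ t' N₂)] at hP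
      exact ker_le_of_mem (C₂ := C₂) P hP
    have hcm : (P.map (algebraMap B₂ C₂)).comap (algebraMap B₂ C₂) = P := by
      rw [Ideal.comap_map_of_surjective _ hs, ← RingHom.ker_eq_comap_bot]
      exact sup_eq_left.mpr hker
    have hp : (P.map (algebraMap B₂ C₂)).IsPrime := Ideal.map_isPrime_of_surjective hs hker
    refine ⟨P.map (algebraMap B₂ C₂), ?_, fun P' _ hle hov => ?_⟩
    · rw [← ass_fiberMod_iff hs t', hcm]
      exact hP
    · refine hno (P'.comap (algebraMap B₂ C₂)) ?_ ?_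
      · rw [← hcm]
        exact Ideal.comap_mono hle
      · constructor
        rw [Ideal.under_def, Ideal.comap_comap, ← IsScalarTower.algebraMap_eq]
        exact hov.over

theorem exists_model (B B₂ C : Type u) [CommRing B] [CommRing B₂] [CommRing C] [Algebra B B₂] [Algebra B C] :
    ∃ (C₂ : Type u) (_ : CommRing C₂) (_ : Algebra B₂ C₂) (_ : Algebra C C₂) (_ : Algebra B C₂)
      (_ : IsScalarTower B B₂ C₂) (_ : IsScalarTower B C C₂), Algebra.IsPushout B C B₂ C₂ := by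
  let _ : Algebra C (B₂ ⊗[B] C) := Algebra.TensorProduct.rightAlgebra
  exact ⟨B₂ ⊗[B] C, inferInstance, inferInstance, inferInstance, inferInstance, inferInstance, inferInstance,
    inferInstance⟩

theorem exists_model_module (C C₂ N : Type u) [CommRing C] [CommRing C₂] [Algebra C C₂] [AddCommGroup N]
    [Module C N] : ∃ (N₂ : Type u) (_ : AddCommGroup N₂) (_ : Module C N₂) (_ : Module C₂ N₂)
      (_ : IsScalarTower C C₂ N₂) (f : N →ₗ[C] N₂), IsBaseChange C₂ f :=
  ⟨C₂ ⊗[C] N, inferInstance, inferInstance, inferInstance, inferInstance, TensorProduct.mk C C₂ N 1,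
    TensorProduct.isBaseChange _ _ _⟩

theorem imp_iff {A B C N A₂ : Type u} [CommRing A] [CommRing B] [CommRing C] [AddCommGroup N]
    [CommRing A₂] [Algebra A B] [Algebra B C] [Algebra A C]
    [IsScalarTower A B C] [Algebra.FiniteType A B] [Module B N] [Module C N]
    [IsScalarTower B C N] [Algebra A A₂]
    (hBC : Function.Surjective (algebraMap B C)) (t' t : Ideal A₂) [t'.IsPrime] [t.IsPrime] :
    Imp A C N A₂ t' t ↔ Imp A B N A₂ t' t := by
  have : Algebra.FiniteType A C := Algebra.FiniteType.of_surjective (IsScalarTower.toAlgHom A B C) hBC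
  obtain ⟨B₂, _, _, _, _, _, _, h₂⟩ := exists_model A A₂ B
  obtain ⟨C₂, _, _, _, _, _, _, h₃⟩ := exists_model B B₂ C
  obtain ⟨N₂, _, _, _, _, f, hf⟩ := exists_model_module C C₂ N
  let _ : Algebra A₂ C₂ := ((algebraMap B₂ C₂).comp (algebraMap A₂ B₂)).toAlgebra
  have _ : IsScalarTower A₂ B₂ C₂ := .of_algebraMap_eq' rfl
  let _ : Algebra A C₂ := ((algebraMap A₂ C₂).comp (algebraMap A A₂)).toAlgebra
  have _ : IsScalarTower A A₂ C₂ := .of_algebraMap_eq' rfl
  have _ : IsScalarTower A B C₂ := IsScalarTower.of_algebraMap_eq' (by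
    rw [IsScalarTower.algebraMap_eq B B₂ C₂, IsScalarTower.algebraMap_eq A A₂ C₂,
      IsScalarTower.algebraMap_eq A₂ B₂ C₂, RingHom.comp_assoc, RingHom.comp_assoc,
      ← IsScalarTower.algebraMap_eq A A₂, ← IsScalarTower.algebraMap_eq A B])
  have _ : IsScalarTower A B₂ C₂ := IsScalarTower.of_algebraMap_eq' (by
    rw [IsScalarTower.algebraMap_eq A A₂ C₂, IsScalarTower.algebraMap_eq A₂ B₂ C₂, RingHom.comp_assoc,
      ← IsScalarTower.algebraMap_eq A A₂])
  have _ : IsScalarTower A C C₂ := IsScalarTower.of_algebraMap_eq' (by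
    rw [IsScalarTower.algebraMap_eq A B C₂, IsScalarTower.algebraMap_eq A B C, ← RingHom.comp_assoc,
      ← IsScalarTower.algebraMap_eq B C C₂])
  have h₄ : Algebra.IsPushout A C A₂ C₂ := (Algebra.IsPushout.comp_iff A B A₂ B₂).mpr h₃
  let _ : Module B₂ N₂ := Module.compHom N₂ (algebraMap B₂ C₂)
  have _ : IsScalarTower B₂ C₂ N₂ := ⟨fun a b n => by rw [Algebra.smul_def, mul_smul]; rfl⟩
  let _ : Module A₂ N₂ := Module.compHom N₂ (algebraMap A₂ C₂)
  have _ : IsScalarTower A₂ C₂ N₂ := ⟨fun a b n => by rw [Algebra.smul_def, mul_smul]; rfl⟩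
  have _ : IsScalarTower A₂ B₂ N₂ := IsScalarTower.to₁₂₄ A₂ B₂ C₂ N₂
  let _ : Module B N₂ := Module.compHom N₂ (algebraMap B C₂)
  have _ : IsScalarTower B C₂ N₂ := ⟨fun a b n => by rw [Algebra.smul_def, mul_smul]; rfl⟩
  have _ : IsScalarTower B B₂ N₂ := IsScalarTower.to₁₂₄ B B₂ C₂ N₂
  have _ : IsScalarTower B C N₂ := IsScalarTower.to₁₂₄ B C C₂ N₂
  exact imp_iff_aux hBC h₂ h₃ h₄ f hf t' t

end Groth.Agent.FlatMor.K255.ImpSurj
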