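import Groth.Agent.S1229
import Groth.Agent.Flat2B.FlatCrit
import Groth.Agent.Flat2B.BCTools
import Groth.Agent.FlatMor.K255.ImpSurj

set_option autoImplicit false
universe u

/-!
# The flattening ideal of a finite module over an essentially finite type local algebra over a
henselian local ring, quotient version
-/

namespace Groth.Agent.FlatMor.K255.CorepMod

open TensorProduct IsLocalRing

theorem flatAt_iff_flat {A B A' B' N N' : Type u} [CommRing A] [CommRing B] [CommRing A'] [CommRing B']
    [IsLocalRing A] [IsLocalRing B] [IsLocalRing A'] [Algebra A B] [IsLocalHom (algebraMap A B)] [Algebra A A']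
    [Algebra A B'] [Algebra A' B'] [Algebra B B'] [IsScalarTower A A' B'] [IsScalarTower A B B']
    [Algebra.IsPushout A B A' B']
    [AddCommGroup N] [Module A N] [Module B N] [IsScalarTower A B N]
    [AddCommGroup N'] [Module A N'] [Module B N'] [Module A' N'] [Module B' N'] [IsScalarTower A B N']
    [IsScalarTower A A' N'] [IsScalarTower B B' N'] [IsScalarTower A' B' N']
    [IsScalarTower A B' N']
    (hs : Function.Surjective (algebraMap A A'))
    (f : N →ₗ[B] N') (hf : IsBaseChange B' f) :
    (∀ (q : Ideal B') [q.IsPrime], (maximalIdeal A').map (algebraMap A' B') ⊔ (maximalIdeal B).map (algebraMap B B') ≤ q →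
            FlatCA.FlatAt A' q N') ↔ Module.Flat A' (A' ⊗[A] N) := by
  have _ : Algebra.IsPushout A A' B B' := Algebra.IsPushout.symm inferInstance
  have hf' : IsBaseChange A' (f.restrictScalars A) :=
    Flat2B.BCTools.isBaseChange_of_isPushout _ hf
  have h3 : Module.Flat A' (A' ⊗[A] N) ↔ Module.Flat A' N' :=
    Module.Flat.equiv_iff hf'.equiv
  rw [h3]
  have hsurj : Function.Surjective (algebraMap B B') :=
    Flat2B.BCTools.surjective_of_isPushout A A' B B' hs
  constructor
  · intro h
    apply Flat2B.FlatCrit.flat_of_forall_flatAt (S := B')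
    intro Q hQ
    refine h Q ?_
    have h1 : (Q.comap (algebraMap B B')).IsMaximal :=
      Ideal.comap_isMaximal_of_surjective _ hsurj
    have h2 := IsLocalRing.eq_maximalIdeal h1
    have hB : (maximalIdeal B).map (algebraMap B B') ≤ Q := by
      rw [Ideal.map_le_iff_le_comap, h2]
    refine sup_le ?_ hB
    rw [Ideal.map_le_iff_le_comap]
    intro x hx
    obtain ⟨a, rfl⟩ := hs x
    rw [Ideal.mem_comap]
    have ha : a ∈ maximalIdeal A := by
      rw [mem_maximalIdeal, mem_nonunits_iff] at hx ⊢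
      exact fun hu => hx (hu.map _)
    have hb : algebraMap A B a ∈ maximalIdeal B := by
      rw [mem_maximalIdeal, mem_nonunits_iff] at ha ⊢
      exact fun hu => ha (isUnit_of_map_unit _ _ hu)
    have h3 := hB (Ideal.mem_map_of_mem _ hb)
    rw [← IsScalarTower.algebraMap_apply A B B', IsScalarTower.algebraMap_apply A A' B'] at h3
    exact h3
  · intro h q _ _
    exact Flat2B.FlatCrit.flatAt_of_flat q _

theorem exists_corep_quot {A B : Type u} [CommRing A] [HenselianLocalRing A] [CommRing B] [IsLocalRing B]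
    [Algebra A B] [IsLocalHom (algebraMap A B)] [Algebra.EssFiniteType A B]
    (N : Type u) [AddCommGroup N] [Module B N] [Module A N] [IsScalarTower A B N] [Module.Finite B N] :
    ∃ I : Ideal A, I ≤ maximalIdeal A ∧
      (∀ J : Ideal A, J ≤ maximalIdeal A → (Module.Flat (A ⧸ J) ((A ⧸ J) ⊗[A] N) ↔ I ≤ J)) ∧
      (FlatCA.EssFinitePresentation A B → Module.FinitePresentation B N → I.FG) := by
  obtain ⟨I, hI, hfg⟩ := S1229.result (A := A) (B := B) N
  have key : ∀ J : Ideal A, J ≤ maximalIdeal A → (Module.Flat (A ⧸ J) ((A ⧸ J) ⊗[A] N) ↔ I ≤ J) := by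
    intro J hJ
    have hnt : Nontrivial (A ⧸ J) :=
      Ideal.Quotient.nontrivial_iff.mpr (fun h => Ideal.IsPrime.ne_top inferInstance (top_le_iff.mp (h ▸ hJ)))
    have hloc : IsLocalRing (A ⧸ J) := IsLocalRing.of_surjective' _ Ideal.Quotient.mk_surjective
    have hlh : IsLocalHom (algebraMap A (A ⧸ J)) :=
      IsLocalHom.of_surjective _ Ideal.Quotient.mk_surjective
    obtain ⟨B', _, _, _, _, _, _, hpo⟩ := ImpSurj.exists_model A (A ⧸ J) B
    obtain ⟨N', _, _, _, _, f, hf⟩ := ImpSurj.exists_model_module B B' N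
    letI : Module (A ⧸ J) N' := Module.compHom _ (algebraMap (A ⧸ J) B')
    letI : Module A N' := Module.compHom _ (algebraMap A B)
    have tw : IsScalarTower (A ⧸ J) B' N' := ⟨fun a b x => by
      rw [Algebra.smul_def, mul_smul]; rfl⟩
    have twA : IsScalarTower A B N' := ⟨fun a b x => by
      rw [Algebra.smul_def, mul_smul]; rfl⟩
    have twB' : IsScalarTower A B' N' := ⟨fun a b x => by
      rw [Algebra.smul_def, mul_smul, IsScalarTower.algebraMap_apply A B B', algebraMap_smul]; rfl⟩
    have twJ : IsScalarTower A (A ⧸ J) N' := ⟨fun a b x => by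
      rw [← algebraMap_smul B' (a • b) x, Algebra.smul_def, map_mul, mul_smul,
        ← IsScalarTower.algebraMap_apply A (A ⧸ J) B', algebraMap_smul, algebraMap_smul]⟩
    have h1 := hI (A ⧸ J) B' N' f hf
    have h2 : I.map (algebraMap A (A ⧸ J)) = ⊥ ↔ I ≤ J := by
      rw [Ideal.Quotient.algebraMap_eq, Ideal.map_eq_bot_iff_le_ker, Ideal.mk_ker]
    rw [← h2, ← h1]
    exact (flatAt_iff_flat (B := B) Ideal.Quotient.mk_surjective f hf).symm
  refine ⟨I, ?_, key, hfg⟩
  rw [← key _ le_rfl]
  letI : Field (A ⧸ maximalIdeal A) := Ideal.Quotient.field _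
  infer_instance

theorem flat_of_flat_quotient_bot {A N : Type u} [CommRing A] [AddCommGroup N] [Module A N]
    (h : Module.Flat (A ⧸ (⊥ : Ideal A)) ((A ⧸ (⊥ : Ideal A)) ⊗[A] N)) : Module.Flat A N := by
  letI e : (A ⧸ (⊥ : Ideal A)) ≃ₐ[A] A := AlgEquiv.quotientBot A A
  letI : Algebra (A ⧸ (⊥ : Ideal A)) A := e.toRingHom.toAlgebra
  have : IsScalarTower A (A ⧸ (⊥ : Ideal A)) A := IsScalarTower.of_algebraMap_eq (fun x => by
    change x = e (algebraMap A _ x)
    rw [AlgEquiv.commutes]
    rfl)
  have h1 : Module.Flat A (A ⊗[A ⧸ (⊥ : Ideal A)] ((A ⧸ (⊥ : Ideal A)) ⊗[A] N)) := inferInstance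
  have h2 := (Module.Flat.equiv_iff
    (AlgebraTensorModule.cancelBaseChange A (A ⧸ (⊥ : Ideal A)) A A N)).mp h1
  exact (Module.Flat.equiv_iff (TensorProduct.lid A N)).1 h2

end Groth.Agent.FlatMor.K255.CorepMod
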