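import Groth.Agent.FlatMor.K255.SpreadBas
import Groth.Agent.S2871
import Groth.Agent.S8890
import Groth.Agent.S1575
import Groth.Agent.ZClos.K283.Depth
import Groth.Agent.CalgA.SerreLocal
import Groth.Agent.FormalB.PpFinal
import Groth.Agent.PerfC.RelFlat
import Groth.Agent.Ega4B.DepthFinite
import Groth.Agent.PerfA.CohSerre
import Groth.Agent.FormalB.PullCoh
import Groth.Agent.Dcoh.Spread
import Groth.Agent.Fdesc.FinStalk

/-!
# The counit `f^* f_* E ⟶ E` is an isomorphism in depth two

`f : X ⟶ S` proper and flat, `O_S = f_* O_X`, `E` finite locally free on `X` which locally over an open `U ⊆ S` is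
free over the inverse images of opens of the base, with `depth O_{S,s} ≥ 2` for `s ∉ U`. Then `f^* f_* E ⟶ E` is
an isomorphism.
-/

set_option autoImplicit false
set_option linter.style.haveILetI false
universe u
open CategoryTheory CategoryTheory.Limits AlgebraicGeometry TopologicalSpace Opposite

namespace Groth.Agent.FlatMor.K255.CounitDepth

open Groth.Agent.Flat2F.SecBasis

variable {X S : Scheme.{u}}

/-- The counit is bijective on the stalks over the open where the module is locally free over the base. -/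
theorem bijective_counit_stalk (p : X ⟶ S) (hp : ∀ U : S.Opens, IsIso (p.app U)) (E : X.Modules) (x : X)
    (h : ∃ (V : S.Opens) (r : ℕ) (s : Fin r → Γ(E, p ⁻¹ᵁ V)), p.base x ∈ V ∧ BasOn E (p ⁻¹ᵁ V) s) :
    Function.Bijective ((TopCat.Presheaf.stalkFunctor AddCommGrpCat.{u} x).map
      (Scheme.Modules.Hom.mapPresheaf ((Scheme.Modules.pullbackPushforwardAdjunction p).counit.app E))) := by
  obtain ⟨V, r, s, hV, hs⟩ := h
  have h1 := basOn_pushforward p hp E s hs
  have h2 : BasAt _ _ x (show x ∈ p ⁻¹ᵁ V from hV) := (h1.pullback p).basAt x hV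
  refine h2.bijective _ ?_
  have h3 := hs.basAt x hV
  have h4 : (fun i => ((Scheme.Modules.pullbackPushforwardAdjunction p).counit.app E).app (p ⁻¹ᵁ V)
      (pbs p ((Scheme.Modules.pushforward p).obj E)
        (show Γ((Scheme.Modules.pushforward p).obj E, V) from s i))) = s := by
    funext i
    exact counit_app_pbs p E (s i)
  rw [← h4] at h3
  exact h3

/-- The depth of a finite locally free module on `X` is at least the depth of the base. -/
theorem depth_le_depth_stalk [IsLocallyNoetherian S] [IsLocallyNoetherian X] (f : X ⟶ S) [Flat f] {E : X.Modules}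
    (hE : FlatMod.IsFinLocFree E) (x : X) :
    LocCoh.depth (S.presheaf.stalk (f x)) (S.presheaf.stalk (f x)) ≤
      LocCoh.depth (X.presheaf.stalk x) (E.presheaf.stalk x) := by
  have hfl : FlatMod.IsFlatOver f E :=
    Groth.Agent.PerfC.RelFlat.isFlatOver_of_isFlat f (Groth.Agent.Dcoh.Spread.isFlat_of_isFinLocFree hE)
  letI : Algebra (S.presheaf.stalk (f x)) (X.presheaf.stalk x) := (f.stalkMap x).hom.toAlgebra
  letI : Module (S.presheaf.stalk (f x)) (E.presheaf.stalk x) := FlatMod.moduleStalkOver f E x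
  haveI : IsScalarTower (S.presheaf.stalk (f x)) (X.presheaf.stalk x) (E.presheaf.stalk x) :=
    ⟨fun a b c => (mul_smul _ _ _)⟩
  haveI : IsLocalHom (algebraMap (S.presheaf.stalk (f x)) (X.presheaf.stalk x)) :=
    inferInstanceAs (IsLocalHom (f.stalkMap x).hom)
  haveI : Module.Flat (S.presheaf.stalk (f x)) (E.presheaf.stalk x) := hfl x
  haveI : Module.Finite (X.presheaf.stalk x) (E.presheaf.stalk x) :=
    Groth.Agent.Fdesc.FinStalk.finite_stalk_of_isCoh E (Groth.Agent.PerfA.CohSerre.isCoh_of_isFinLocFree hE) x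
  have h1 := Groth.Agent.Ega4A.DepthFlat.depth_tensor_eq_add (R := S.presheaf.stalk (f x))
    (S := X.presheaf.stalk x) (E.presheaf.stalk x) (S.presheaf.stalk (f x))
  rw [Groth.Agent.Ega4A.DepthFlat.depth_congr (TensorProduct.AlgebraTensorModule.rid
    (S.presheaf.stalk (f x)) (X.presheaf.stalk x) (E.presheaf.stalk x))] at h1
  rw [h1]
  exact le_self_add

/-- `f_* E` has depth at least two outside `U`. -/
theorem two_le_depth_pushforward [IsLocallyNoetherian S] (f : X ⟶ S) [Flat f] [IsProper f] {E : X.Modules}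
    (hE : FlatMod.IsFinLocFree E) (U : S.Opens)
    (hd : ∀ s : S, s ∉ U → (2 : ℕ∞) ≤ LocCoh.depth (S.presheaf.stalk s) (S.presheaf.stalk s)) (s : S) (hs : s ∉ U) :
    (2 : ℕ∞) ≤ LocCoh.depth (S.presheaf.stalk s) (((Scheme.Modules.pushforward f).obj E).presheaf.stalk s) := by
  have : IsLocallyNoetherian X := LocallyOfFiniteType.isLocallyNoetherian f
  have hEc := Groth.Agent.PerfA.CohSerre.isCoh_of_isFinLocFree hE
  have hb := fun V => Groth.Agent.S1575.result X E hEc (f ⁻¹ᵁ U) (fun x hx => (hd (f x) hx).trans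
    (depth_le_depth_stalk f hE x)) V
  have h1 : IsIso ((ZClos.resPushUnit U).app ((Scheme.Modules.pushforward f).obj E)) := by
    rw [K283.Closed.isIso_unit_iff]
    intro V
    exact hb (f ⁻¹ᵁ V)
  refine K283.Depth.two_le_depth_of_bijective_unit
    (Groth.Agent.FormalB.PpFinal.isCoh_push f E hEc) U s hs ?_
  exact (Groth.Agent.CycB.StalkExact.stalkLinEquiv
    (asIso ((ZClos.resPushUnit U).app ((Scheme.Modules.pushforward f).obj E))) s).bijective

/-- **The counit is an isomorphism.** -/
theorem isIso_counit [IsLocallyNoetherian S] (f : X ⟶ S) [Flat f] [IsProper f]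
    (hO : ∀ U : S.Opens, IsIso (f.app U)) {E : X.Modules}
    (hE : FlatMod.IsFinLocFree E)
    (h : ∀ s : S, (∃ (V : S.Opens) (r : ℕ) (t : Fin r → Γ(E, f ⁻¹ᵁ V)), s ∈ V ∧ BasOn E (f ⁻¹ᵁ V) t) ∨
      (2 : ℕ∞) ≤ LocCoh.depth (S.presheaf.stalk s) (S.presheaf.stalk s)) :
    IsIso ((Scheme.Modules.pullbackPushforwardAdjunction f).counit.app E) := by
  have : IsLocallyNoetherian X := LocallyOfFiniteType.isLocallyNoetherian f
  have hEc := Groth.Agent.PerfA.CohSerre.isCoh_of_isFinLocFree hE
  have hPc := Groth.Agent.FormalB.PpFinal.isCoh_push f E hEc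
  let U : S.Opens := ⟨{s | ∃ (V : S.Opens) (r : ℕ) (t : Fin r → Γ(E, f ⁻¹ᵁ V)), s ∈ V ∧ BasOn E (f ⁻¹ᵁ V) t}, by
    rw [isOpen_iff_forall_mem_open]
    rintro s ⟨V, r, t, hs, ht⟩
    exact ⟨V, fun s' hs' => ⟨V, r, t, hs', ht⟩, V.isOpen, hs⟩⟩
  have hU : ∀ s : S, s ∉ U → (2 : ℕ∞) ≤ LocCoh.depth (S.presheaf.stalk s) (S.presheaf.stalk s) :=
    fun s hs => (h s).resolve_left hs
  refine Groth.Agent.S8890.result X _ ?_ hEc.1 fun x => ?_
  · exact Groth.Agent.FormalB.PullCoh.isCoh_pullback f hPc
  · by_cases hx : f x ∈ U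
    · exact Or.inl (bijective_counit_stalk f hO E x hx)
    · right
      constructor
      · change (2 : ℕ∞) ≤ LocCoh.depth (X.presheaf.stalk x)
          (((Scheme.Modules.pullback f).obj ((Scheme.Modules.pushforward f).obj E)).presheaf.stalk x)
        rw [Groth.Agent.S2871.depth_stalk_pullback f _ hPc x]
        exact (two_le_depth_pushforward f hE U hU (f x) hx).trans le_self_add
      · intro hass
        have hfin : Module.Finite (X.presheaf.stalk x) (E.presheaf.stalk x) :=
          Groth.Agent.Fdesc.FinStalk.finite_stalk_of_isCoh E hEc x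
        have h1 : (1 : ℕ∞) ≤ LocCoh.depth (X.presheaf.stalk x) (E.presheaf.stalk x) :=
          le_trans (by decide) ((hU (f x) hx).trans (depth_le_depth_stalk f hE x))
        exact (Groth.Agent.Ega4B.DepthFinite.one_le_depth_iff (R := X.presheaf.stalk x)
          (E.presheaf.stalk x)).mp h1 hass

end Groth.Agent.FlatMor.K255.CounitDepth
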