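import Groth.Agent.Models.DoubleCx
import Groth.Agent.LoccohB.ModHom

set_option autoImplicit false
universe u

/-!
# Quasi-isomorphisms of two-term complexes of modules
-/

namespace Groth.Agent.FlatMor.K255.DblQis

open CategoryTheory CategoryTheory.Limits Groth.Agent.Models.DoubleCx

variable {R : Type u} [CommRing R] {X Y X' Y' : ModuleCat.{u} R} {f : X ⟶ Y} {f' : X' ⟶ Y'}

theorem quasiIso_dblMap (a : X ⟶ X') (b : Y ⟶ Y') (h : a ≫ f' = f ≫ b)
    (K1 : ∀ x : X, f x = 0 → a x = 0 → x = 0) (K2 : ∀ y : X', f' y = 0 → ∃ x : X, f x = 0 ∧ a x = y)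
    (C1 : ∀ n : Y, (∃ m, f' m = b n) → ∃ m, f m = n) (C2 : ∀ n' : Y', ∃ (n : Y) (m' : X'), n' = b n + f' m') :
    QuasiIso (dblMap a b h) := by
  constructor
  intro i
  rw [LoccohB.ModHom.quasiIsoAt_iff']
  have hz : ∀ (X Y : ModuleCat.{u} R) (f : X ⟶ Y) (j : ℤ), j ≠ -1 → j ≠ 0 → ∀ x : (dbl f).X j, x = 0 := by
    intro X Y f j h1 h0 x
    have hzz : IsZero ((dbl f).X j) := HomologicalComplex.isZero_double_X _ _ j h1 h0
    have := ModuleCat.subsingleton_of_isZero hzz
    exact Subsingleton.elim _ _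
  have e0 : ∀ (X Y : ModuleCat.{u} R) (f : X ⟶ Y) (x : (dbl f).X (-1)),
      (i₁ f).hom ((dbl f).d (-1) 0 x) = f ((i₀ f).hom x) := by
    intro X Y f x
    rw [dbl_d]
    simp
  by_cases hi : i = -1
  · subst hi
    constructor
    · intro x hx hy
      refine ⟨0, ?_⟩
      rw [map_zero]
      have hx0 : (i₀ f).hom x = 0 := by
        apply K1
        · rw [← e0]
          have : (dbl f).d (-1) 0 x = 0 := hx
          rw [this, map_zero]
        · obtain ⟨y, hy⟩ := hy
          have hy0 : y = 0 := hz _ _ _ _ (by norm_num) (by norm_num) y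
          rw [hy0, map_zero, dblMap_f₀] at hy
          have := congrArg (i₀ f').hom hy
          simpa using this.symm
      have := congrArg (i₀ f).inv hx0
      simpa using this.symm
    · intro y hy
      obtain ⟨x, hx, hax⟩ := K2 ((i₀ f').hom y) (by
        rw [← e0]
        have : (dbl f').d (-1) 0 y = 0 := hy
        rw [this, map_zero])
      refine ⟨(i₀ f).inv x, 0, ?_, ?_⟩
      · change (dbl f).d (-1) 0 ((i₀ f).inv x) = 0
        rw [dbl_d]
        simp [hx]
      · rw [map_zero, dblMap_f₀]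
        simp [hax]
  by_cases hi0 : i = 0
  · subst hi0
    constructor
    · rintro x - ⟨y, hy⟩
      obtain ⟨m, hm⟩ := C1 ((i₁ f).hom x) ⟨(i₀ f').hom y, by
        have h1 : (dbl f').d (-1) 0 y = (dblMap a b h).f 0 x := hy
        rw [← e0, h1, dblMap_f₁]
        simp⟩
      refine ⟨(i₀ f).inv m, ?_⟩
      change (dbl f).d (-1) 0 ((i₀ f).inv m) = x
      rw [dbl_d]
      simp [hm]
    · rintro y -
      obtain ⟨n, m', hn⟩ := C2 ((i₁ f').hom y)
      refine ⟨(i₁ f).inv n, (i₀ f').inv (-m'), ?_, ?_⟩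
      · exact hz _ _ _ _ (by norm_num) (by norm_num) _
      · change (dbl f').d (-1) 0 ((i₀ f').inv (-m')) = _
        rw [dbl_d, dblMap_f₁]
        apply (ConcreteCategory.bijective_of_isIso (i₁ f').hom).1
        simp [hn]
  · constructor
    · intro x _ _
      exact ⟨0, by rw [hz _ _ _ _ hi hi0 x, map_zero]⟩
    · intro y _
      refine ⟨0, 0, map_zero _, ?_⟩
      rw [map_zero, map_zero, hz _ _ _ _ hi hi0 y, sub_zero]

end Groth.Agent.FlatMor.K255.DblQis
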