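import Groth.Agent.FlatMor.K255.MLInj
import Groth.Agent.FlatA.AlinAssembly
import Groth.Agent.Ega1.FibFlat
import Groth.Agent.S0405
import Groth.Agent.S1216
import Groth.Agent.S0507
import Groth.Agent.Fdesc.FlatAlg
import Groth.Agent.Desc.FinLocFreeSections

set_option autoImplicit false
universe u

/-!
# Maps into flat modules which are injective modulo the maximal ideal, finite type case
-/

namespace Groth.Agent.FlatMor.K255.InjMax

open TensorProduct IsLocalRing

theorem one_tmul_eq_zero_iff {A N : Type*} [CommRing A] [AddCommGroup N] [Module A N] (I : Ideal A) (n : N) :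
    (1 : A ⧸ I) ⊗ₜ[A] n = 0 ↔ n ∈ (I • ⊤ : Submodule A N) := by
  rw [← (TensorProduct.quotTensorEquivQuotSMul N I).map_eq_zero_iff]
  have : TensorProduct.quotTensorEquivQuotSMul N I ((1 : A ⧸ I) ⊗ₜ[A] n) = Submodule.Quotient.mk n := by
    have := TensorProduct.quotTensorEquivQuotSMul_mk_tmul (M := N) I 1 n
    simpa using this
  rw [this, Submodule.Quotient.mk_eq_zero]

theorem exists_one_tmul {A N : Type*} [CommRing A] [AddCommGroup N] [Module A N] (I : Ideal A)
    (x : (A ⧸ I) ⊗[A] N) : ∃ n : N, x = 1 ⊗ₜ n := by
  induction x with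
  | zero => exact ⟨0, by simp⟩
  | tmul a n =>
    obtain ⟨a, rfl⟩ := Ideal.Quotient.mk_surjective a
    refine ⟨a • n, ?_⟩
    rw [← TensorProduct.smul_tmul, Algebra.smul_def, mul_one]
    rfl
  | add x y hx hy =>
    obtain ⟨a, rfl⟩ := hx
    obtain ⟨b, rfl⟩ := hy
    exact ⟨a + b, by rw [TensorProduct.tmul_add]⟩

theorem lTensor_injective_iff {A N M : Type*} [CommRing A] [AddCommGroup N] [Module A N] [AddCommGroup M]
    [Module A M] (I : Ideal A) (u : N →ₗ[A] M) :
    Function.Injective (u.lTensor (A ⧸ I)) ↔
      ∀ n : N, u n ∈ (I • ⊤ : Submodule A M) → n ∈ (I • ⊤ : Submodule A N) := by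
  rw [injective_iff_map_eq_zero]
  constructor
  · intro h n hn
    rw [← one_tmul_eq_zero_iff] at hn ⊢
    exact h _ (by rw [LinearMap.lTensor_tmul]; exact hn)
  · intro h x hx
    obtain ⟨n, rfl⟩ := exists_one_tmul I x
    rw [LinearMap.lTensor_tmul, one_tmul_eq_zero_iff] at hx
    rw [one_tmul_eq_zero_iff]
    exact h n hx

/-- Henselian base. -/
theorem henselian_case {A B N M : Type u} [CommRing A] [HenselianLocalRing A] [CommRing B]
    [IsLocalRing B] [Algebra A B] [IsLocalHom (algebraMap A B)]
    [Algebra.EssFiniteType A B]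
    [AddCommGroup N] [Module A N] [Module B N] [IsScalarTower A B N] [Module.Finite B N]
    [AddCommGroup M] [Module A M] [Module.Flat A M]
    (u : N →ₗ[A] M) (hu : Function.Injective (u.lTensor (ResidueField A))) :
    Module.FinitePresentation B N ∧ Module.Flat A N ∧
      ∀ (Q : Type u) [AddCommGroup Q] [Module A Q], Function.Injective (u.rTensor Q) := by
  obtain ⟨B₀, _, _, _, _, _, hfp, hs, -⟩ := Ega1.FibFlat.exists_approx A B
  have hloc : IsLocalHom (algebraMap A B₀) := by
    constructor
    intro a ha
    have h1 := ha.map (algebraMap B₀ B)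
    rw [← IsScalarTower.algebraMap_apply] at h1
    exact isUnit_of_map_unit _ _ h1
  have hess : Algebra.EssFiniteType A B₀ := by
    obtain ⟨S₀, _, _, _, _, S, hS, hl⟩ := hfp
    have : Algebra.EssFiniteType S₀ B₀ := Algebra.EssFiniteType.of_isLocalization _ S
    exact Algebra.EssFiniteType.comp A S₀ B₀
  letI : Module B₀ N := Module.compHom N (algebraMap B₀ B)
  have t1 : IsScalarTower B₀ B N := ⟨fun a b x => by rw [Algebra.smul_def, mul_smul]; rfl⟩
  have t2 : IsScalarTower A B₀ N := ⟨fun a b x => by
    rw [← algebraMap_smul B (a • b) x, Algebra.smul_def, map_mul, mul_smul,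
      ← IsScalarTower.algebraMap_apply A B₀ B, algebraMap_smul, algebraMap_smul]⟩
  have hfin : Module.Finite B₀ N := by
    have : Module.Finite B₀ B := Module.Finite.of_surjective (Algebra.linearMap B₀ B) hs
    exact Module.Finite.trans B N
  obtain ⟨N₀, _, _, _, _, p, hfpN, hps, hp⟩ := FlatA.AlinAssembly.exists_fp_cover (R := A) (S := B₀) (N := N)
  let u₀ : N₀ →ₗ[A] M := u ∘ₗ p.restrictScalars A
  have hu₀ : Function.Injective (u₀.lTensor (ResidueField A)) := by
    rw [LinearMap.lTensor_comp]
    exact hu.comp ((lTensor_injective_iff (maximalIdeal A) (p.restrictScalars A)).mpr hp)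
  obtain ⟨hflat, hinj⟩ := MLInj.rTensor_injective_of_henselian (B := B₀) hfp u₀ hu₀
  have hinj₀ : Function.Injective u₀ := by
    have := hinj A
    intro x y hxy
    have h1 : (x ⊗ₜ[A] (1 : A)) = y ⊗ₜ[A] (1 : A) := this (by
      rw [LinearMap.rTensor_tmul, LinearMap.rTensor_tmul, hxy])
    simpa using congrArg (TensorProduct.rid A N₀) h1
  have hpi : Function.Injective p := by
    intro x y hxy
    exact hinj₀ (congrArg u hxy)
  let e : N₀ ≃ₗ[B₀] N := LinearEquiv.ofBijective p ⟨hpi, hps⟩
  have hfpN' : Module.FinitePresentation B₀ N := Module.FinitePresentation.of_equiv e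
  refine ⟨S0405.finitePresentation_of_surjective B₀ B N hs,
    Module.Flat.of_linearEquiv (e.restrictScalars A).symm, fun Q _ _ => ?_⟩
  have h1 : u = u₀ ∘ₗ (e.restrictScalars A).symm.toLinearMap := by
    ext n
    change u n = u (p (e.symm n))
    congr 1
    exact (e.apply_symm_apply n).symm
  rw [h1, LinearMap.rTensor_comp]
  have h2 : Function.Injective ((e.restrictScalars A).symm.toLinearMap.rTensor Q) :=
    (LinearEquiv.rTensor Q (e.restrictScalars A).symm).injective
  exact (hinj Q).comp h2

/-- Universal injectivity descends along a faithfully flat base change of the total ring. -/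
theorem rTensor_injective_of_baseChange {A B B' N M : Type u} [CommRing A] [CommRing B] [CommRing B']
    [Algebra A B] [Algebra B B'] [Algebra A B'] [IsScalarTower A B B'] [Module.FaithfullyFlat B B']
    [AddCommGroup N] [Module B N] [Module A N] [IsScalarTower A B N]
    [AddCommGroup M] [Module B M] [Module A M] [IsScalarTower A B M] (u : N →ₗ[B] M)
    (Q : Type u) [AddCommGroup Q] [Module A Q]
    (h : Function.Injective (((u.lTensor B').restrictScalars A).rTensor Q)) :
    Function.Injective ((u.restrictScalars A).rTensor Q) := by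
  have key : Function.Injective (((TensorProduct.mk B B' N 1).restrictScalars A).rTensor Q) := by
    have h1 : Function.Injective (TensorProduct.mk B B' (N ⊗[A] Q) 1) :=
      Module.FaithfullyFlat.tensorProduct_mk_injective (N ⊗[A] Q)
    have h2 : ∀ x : N ⊗[A] Q, AlgebraTensorModule.assoc A B B B' N Q
        (((TensorProduct.mk B B' N 1).restrictScalars A).rTensor Q x) = TensorProduct.mk B B' (N ⊗[A] Q) 1 x := by
      intro x
      induction x with
      | zero => simp
      | tmul n q => rfl
      | add x y hx hy => rw [map_add, map_add, map_add, hx, hy]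
    intro x y hxy
    apply h1
    rw [← h2, ← h2, hxy]
  have hcomm : ((TensorProduct.mk B B' M 1).restrictScalars A).rTensor Q ∘ₗ (u.restrictScalars A).rTensor Q =
      ((u.lTensor B').restrictScalars A).rTensor Q ∘ₗ ((TensorProduct.mk B B' N 1).restrictScalars A).rTensor Q := by
    rw [← LinearMap.rTensor_comp, ← LinearMap.rTensor_comp]
    rfl
  have h3 : Function.Injective (((TensorProduct.mk B B' M 1).restrictScalars A).rTensor Q ∘ₗ
      (u.restrictScalars A).rTensor Q) := by
    rw [hcomm]
    exact h.comp key
  exact Function.Injective.of_comp h3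

/-- Universal injectivity over a base algebra implies universal injectivity. -/
theorem rTensor_injective_of_tower {A H X Y : Type u} [CommRing A] [CommRing H] [Algebra A H]
    [AddCommGroup X] [Module H X] [Module A X] [IsScalarTower A H X]
    [AddCommGroup Y] [Module H Y] [Module A Y] [IsScalarTower A H Y] (v : X →ₗ[H] Y)
    (Q : Type u) [AddCommGroup Q] [Module A Q]
    (h : Function.Injective (v.rTensor (H ⊗[A] Q))) :
    Function.Injective ((v.restrictScalars A).rTensor Q) := by
  have h1 : ∀ x : X ⊗[H] (H ⊗[A] Q),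
      (v.restrictScalars A).rTensor Q (AlgebraTensorModule.cancelBaseChange A H H X Q x) =
        AlgebraTensorModule.cancelBaseChange A H H Y Q (v.rTensor (H ⊗[A] Q) x) := by
    intro x
    induction x with
    | zero => simp
    | add x y hx hy => simp only [map_add, hx, hy]
    | tmul x q =>
      induction q with
      | zero => simp
      | add q r hq hr => simp only [TensorProduct.tmul_add, map_add, hq, hr]
      | tmul a q =>
        rw [AlgebraTensorModule.cancelBaseChange_tmul, LinearMap.rTensor_tmul, LinearMap.rTensor_tmul,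
          AlgebraTensorModule.cancelBaseChange_tmul]
        change v (a • x) ⊗ₜ[A] q = (a • v x) ⊗ₜ[A] q
        rw [map_smul]
  intro x y hxy
  apply (AlgebraTensorModule.cancelBaseChange A H H X Q).symm.injective
  apply h
  apply (AlgebraTensorModule.cancelBaseChange A H H Y Q).injective
  rw [← h1, ← h1, LinearEquiv.apply_symm_apply, LinearEquiv.apply_symm_apply, hxy]

/-- Injectivity modulo the maximal ideal after base change. -/
theorem mod_injective_baseChange {A B H B' N M : Type u} [CommRing A] [CommRing B] [CommRing B'] [CommRing H]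
    [Algebra A B] [Algebra B B'] [Algebra A B'] [Algebra H B'] [Algebra A H] [IsScalarTower A H B']
    [IsScalarTower A B B'] [Module.Flat B B']
    [AddCommGroup N] [Module B N] [Module A N] [IsScalarTower A B N]
    [AddCommGroup M] [Module B M] [Module A M] [IsScalarTower A B M] (I : Ideal A) (u : N →ₗ[B] M)
    (h : ∀ n : N, u n ∈ (I • ⊤ : Submodule A M) → n ∈ (I • ⊤ : Submodule A N)) (x : B' ⊗[B] N)
    (hx : u.lTensor B' x ∈ (I.map (algebraMap A H) • ⊤ : Submodule H (B' ⊗[B] M))) :
    x ∈ (I.map (algebraMap A H) • ⊤ : Submodule H (B' ⊗[B] N)) := by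
  let P : Submodule B N := (I.map (algebraMap A B)) • ⊤
  let R : Submodule B M := (I.map (algebraMap A B)) • ⊤
  have hP : ∀ n : N, n ∈ P ↔ n ∈ (I • ⊤ : Submodule A N) := by
    intro n
    have : P.restrictScalars A = I • (⊤ : Submodule A N) := by
      simp only [P]
      rw [Ideal.smul_restrictScalars]
      rfl
    rw [← this]
    rfl
  have hR : ∀ n : M, n ∈ R ↔ n ∈ (I • ⊤ : Submodule A M) := by
    intro n
    have : R.restrictScalars A = I • (⊤ : Submodule A M) := by
      simp only [R]
      rw [Ideal.smul_restrictScalars]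
      rfl
    rw [← this]
    rfl
  have hle : P ≤ R.comap u := by
    have h1 : P.map u ≤ R := by
      simp only [P, R]
      rw [Submodule.map_smul'']
      exact Submodule.smul_mono le_rfl le_top
    exact Submodule.map_le_iff_le_comap.mp h1
  let ub : (N ⧸ P) →ₗ[B] (M ⧸ R) := P.mapQ R u hle
  have hub : Function.Injective ub := by
    rw [injective_iff_map_eq_zero]
    intro n hn
    obtain ⟨n, rfl⟩ := P.mkQ_surjective n
    have hn' : R.mkQ (u n) = 0 := hn
    rw [Submodule.mkQ_apply, Submodule.Quotient.mk_eq_zero] at hn' ⊢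
    exact (hP n).mpr (h n ((hR _).mp hn'))
  have hann : ∀ z ∈ (I.map (algebraMap A H) • ⊤ : Submodule H (B' ⊗[B] M)), R.mkQ.lTensor B' z = 0 := by
    intro z hz
    have hsub : (I.map (algebraMap A H) • ⊤ : Submodule H (B' ⊗[B] M)) =
        Submodule.span H {w | ∃ a ∈ I, ∃ y : B' ⊗[B] M, w = algebraMap A H a • y} := by
      apply le_antisymm
      · rw [Submodule.smul_le]
        intro r hr y _
        refine Submodule.span_induction (p := fun r _ => r • y ∈ Submodule.span H
          {w | ∃ a ∈ I, ∃ y : B' ⊗[B] M, w = algebraMap A H a • y}) ?_ ?_ ?_ ?_ hr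
        · rintro _ ⟨a, ha, rfl⟩
          exact Submodule.subset_span ⟨a, ha, y, rfl⟩
        · rw [zero_smul]; exact Submodule.zero_mem _
        · intro r s _ _ hr hs
          rw [add_smul]; exact Submodule.add_mem _ hr hs
        · intro c r _ hr
          rw [smul_eq_mul, mul_smul]; exact Submodule.smul_mem _ _ hr
      · rw [Submodule.span_le]
        rintro _ ⟨a, ha, y, rfl⟩
        exact Submodule.smul_mem_smul (Ideal.mem_map_of_mem _ ha) trivial
    rw [hsub] at hz
    have hlin : ∀ (r : H) (w : B' ⊗[B] M), R.mkQ.lTensor B' (r • w) = r • R.mkQ.lTensor B' w := by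
      intro r w
      rw [← algebraMap_smul B' r w, ← algebraMap_smul B' r (R.mkQ.lTensor B' w)]
      exact map_smul (AlgebraTensorModule.lTensor B' B' R.mkQ) _ _
    refine Submodule.span_induction (p := fun z _ => R.mkQ.lTensor B' z = 0) ?_ ?_ ?_ ?_ hz
    · rintro _ ⟨a, ha, y, rfl⟩
      rw [hlin]
      induction y with
      | zero => simp
      | add x y hx hy => rw [map_add, smul_add, hx, hy, add_zero]
      | tmul b m =>
        rw [LinearMap.lTensor_tmul, algebraMap_smul, TensorProduct.smul_tmul', ← algebraMap_smul B a b,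
          TensorProduct.smul_tmul, ← map_smul]
        have : R.mkQ ((algebraMap A B a) • m) = 0 := by
          rw [Submodule.mkQ_apply, Submodule.Quotient.mk_eq_zero]
          exact Submodule.smul_mem_smul (Ideal.mem_map_of_mem _ ha) trivial
        rw [this, TensorProduct.tmul_zero]
    · exact map_zero _
    · intro x y _ _ hx hy; rw [map_add, hx, hy, add_zero]
    · intro c x _ hx; rw [hlin, hx, smul_zero]
  have h1 : P.mkQ.lTensor B' x = 0 := by
    have hinj : Function.Injective (ub.lTensor B') := Module.Flat.lTensor_preserves_injective_linearMap _ hub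
    apply hinj
    rw [map_zero, ← LinearMap.comp_apply, ← LinearMap.lTensor_comp]
    have : ub ∘ₗ P.mkQ = R.mkQ ∘ₗ u := by
      ext n; rfl
    rw [this, LinearMap.lTensor_comp, LinearMap.comp_apply]
    exact hann _ hx
  have hex : Function.Exact (P.subtype.lTensor B') (P.mkQ.lTensor B') :=
    lTensor_exact B' (LinearMap.exact_subtype_mkQ P) P.mkQ_surjective
  obtain ⟨w, rfl⟩ := (hex x).mp h1
  clear hx h1
  induction w with
  | zero => rw [map_zero]; exact Submodule.zero_mem _
  | add x y hx hy => rw [map_add]; exact Submodule.add_mem _ hx hy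
  | tmul b n =>
    obtain ⟨n, hn⟩ := n
    rw [LinearMap.lTensor_tmul]
    change b ⊗ₜ n ∈ _
    rw [hP] at hn
    refine Submodule.smul_induction_on (p := fun n => b ⊗ₜ[B] n ∈ (I.map (algebraMap A H) • ⊤ :
      Submodule H (B' ⊗[B] N))) hn ?_ ?_
    · intro a ha n _
      have h2 : b ⊗ₜ[B] (a • n) = (algebraMap A H a) • (b ⊗ₜ[B] n) := by
        rw [algebraMap_smul, TensorProduct.smul_tmul', ← algebraMap_smul B a n, ← TensorProduct.smul_tmul,
          algebraMap_smul]
      rw [h2]
      exact Submodule.smul_mem_smul (Ideal.mem_map_of_mem _ ha) trivial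
    · intro y z hy hz
      rw [TensorProduct.tmul_add]
      exact Submodule.add_mem _ hy hz

/-- The main theorem. -/
theorem main {A B : Type u} [CommRing A] [IsLocalRing A] [CommRing B] [IsLocalRing B] [Algebra A B]
    [IsLocalHom (algebraMap A B)] [Algebra.EssFiniteType A B] {N M : Type u} [AddCommGroup N] [Module B N]
    [Module A N] [IsScalarTower A B N] [Module.Finite B N] [AddCommGroup M] [Module B M] [Module A M]
    [IsScalarTower A B M] [Module.Flat A M] (u : N →ₗ[B] M)
    (hu : Function.Injective ((u.restrictScalars A).lTensor (ResidueField A))) :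
    FlatCA.UnivInj A (u.restrictScalars A) ∧ Module.FinitePresentation B N ∧ Module.Flat A N := by
  obtain ⟨H, _, _, _, _, hH⟩ := S0506.result A
  have hHens : HenselianLocalRing H := hH.henselian
  have hAH : Module.FaithfullyFlat A H := S0509.result A H
  obtain ⟨B', _, _, _, _, _, _, _, hloc, hess, hff, hflat⟩ :=
    S1216.exists_baseChange_henselization (A := A) (B := B) H
  have hfl : Module.Flat H (B' ⊗[B] M) := hflat M inferInstance
  have hm : Ideal.map (algebraMap A H) (maximalIdeal A) = maximalIdeal H := S0507.result A H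
  let u' : B' ⊗[B] N →ₗ[H] B' ⊗[B] M := (AlgebraTensorModule.lTensor B' B' u).restrictScalars H
  have hu' : Function.Injective (u'.lTensor (ResidueField H)) := by
    refine (lTensor_injective_iff (maximalIdeal H) u').mpr fun x hx => ?_
    rw [← hm] at hx ⊢
    exact mod_injective_baseChange (maximalIdeal A) u
      ((lTensor_injective_iff (maximalIdeal A) (u.restrictScalars A)).mp hu) x hx
  obtain ⟨h1, h2, h3⟩ := henselian_case (A := H) (B := B') (N := B' ⊗[B] N) u' hu'
  refine ⟨fun Q _ _ => ?_, Desc.FinLocFreeSections.finitePresentation_of_tensorProduct B B' N, ?_⟩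
  · refine (LinearMap.lTensor_inj_iff_rTensor_inj (M := Q) (f := u.restrictScalars A)).mpr ?_
    refine rTensor_injective_of_baseChange (B' := B') u Q ?_
    exact rTensor_injective_of_tower (H := H) u' Q (h3 (H ⊗[A] Q))
  · have h4 : Module.Flat A (B' ⊗[B] N) := Module.Flat.trans A H (B' ⊗[B] N)
    exact Fdesc.FlatAlg.flat_of_flat_tensor h4

end Groth.Agent.FlatMor.K255.InjMax
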