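import Groth.Agent.FlatMor.K255.CorepMod
import Groth.Agent.FlatB.MLProj
import Groth.Agent.FlatA.LocalCriterion
import Groth.Agent.Ega43.FlatDescNil
import Groth.Agent.S1215

set_option autoImplicit false
universe u

/-!
# Maps into flat modules which are injective modulo the maximal ideal
-/

namespace Groth.Agent.FlatMor.K255.MLInj

open TensorProduct IsLocalRing

/-- Injectivity after tensoring with the residue field implies injectivity after tensoring with any module
killed by the maximal ideal. -/
theorem rTensor_injective_of_killed {A N M V : Type*} [CommRing A] [IsLocalRing A] [AddCommGroup N] [Module A N]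
    [AddCommGroup M] [Module A M] (u : N →ₗ[A] M)
    (hu : Function.Injective (u.lTensor (ResidueField A))) [AddCommGroup V] [Module A V]
    (hV : ∀ a ∈ maximalIdeal A, ∀ v : V, a • v = 0) : Function.Injective (u.lTensor V) := by
  have hset : Module.IsTorsionBySet A V (maximalIdeal A : Set A) := fun v a => hV a.1 a.2 v
  letI m0 : Module (A ⧸ maximalIdeal A) V := hset.module
  have t0 : IsScalarTower A (A ⧸ maximalIdeal A) V := hset.isScalarTower
  letI m1 : Module (ResidueField A) V := m0
  have t1 : IsScalarTower A (ResidueField A) V := t0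
  have h1 := AlgebraTensorModule.lTensor_comp_cancelBaseChange (R := A) (A := ResidueField A)
    (B := ResidueField A) (M := V) u
  have h2 : Function.Injective (AlgebraTensorModule.lTensor (ResidueField A) V
      (AlgebraTensorModule.lTensor (R := A) (ResidueField A) (ResidueField A) u)) := by
    have : Function.Injective ((AlgebraTensorModule.lTensor (R := A) (ResidueField A) (ResidueField A) u).lTensor V) :=
      Module.Flat.lTensor_preserves_injective_linearMap (M := V)
        (AlgebraTensorModule.lTensor (R := A) (ResidueField A) (ResidueField A) u) hu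
    exact this
  have h3 : Function.Injective ((AlgebraTensorModule.lTensor (ResidueField A) V u) ∘ₗ
      (AlgebraTensorModule.cancelBaseChange A (ResidueField A) (ResidueField A) V N).toLinearMap) := by
    rw [h1]
    exact (AlgebraTensorModule.cancelBaseChange A (ResidueField A) (ResidueField A) V M).injective.comp h2
  intro x y hxy
  have h4 : ((AlgebraTensorModule.lTensor (ResidueField A) V u) ∘ₗ
      (AlgebraTensorModule.cancelBaseChange A (ResidueField A) (ResidueField A) V N).toLinearMap)
      ((AlgebraTensorModule.cancelBaseChange A (ResidueField A) (ResidueField A) V N).symm x) =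
      ((AlgebraTensorModule.lTensor (ResidueField A) V u) ∘ₗ
      (AlgebraTensorModule.cancelBaseChange A (ResidueField A) (ResidueField A) V N).toLinearMap)
      ((AlgebraTensorModule.cancelBaseChange A (ResidueField A) (ResidueField A) V N).symm y) := by
    simp only [LinearMap.coe_comp, LinearEquiv.coe_coe, Function.comp_apply,
      LinearEquiv.apply_symm_apply]
    exact hxy
  exact (AlgebraTensorModule.cancelBaseChange A (ResidueField A) (ResidueField A) V N).symm.injective (h3 h4)

/-- A map from a flat Mittag-Leffler module to a flat module over a local ring which is injective modulo the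
maximal ideal is universally injective. -/
theorem rTensor_injective_of_isMittagLeffler {A N M : Type u} [CommRing A] [IsLocalRing A] [AddCommGroup N]
    [Module A N] [Module.Flat A N] (hML : CAlg.IsMittagLeffler A N) [AddCommGroup M] [Module A M] [Module.Flat A M]
    (u : N →ₗ[A] M) (hu : Function.Injective (u.lTensor (ResidueField A))) (Q : Type u) [AddCommGroup Q]
    [Module A Q] : Function.Injective (u.rTensor Q) := by
  rw [injective_iff_map_eq_zero]
  intro z hz
  obtain ⟨K, ⟨z', rfl⟩, hK⟩ := FlatB.MLProj.exists_smallest hML z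
  -- finite generation of `K`
  have hfg : K.FG := by
    obtain ⟨K'', hfin, h⟩ := TensorProduct.exists_finite_submodule_right_of_setFinite {z'} (Set.finite_singleton z')
    obtain ⟨z'', hz''⟩ := h (Set.mem_singleton z')
    have hle : K ≤ K''.map K.subtype := by
      apply hK
      refine ⟨((K.subtype.submoduleMap K'').lTensor N) z'', ?_⟩
      rw [← hz'', ← LinearMap.comp_apply, ← LinearMap.comp_apply, ← LinearMap.lTensor_comp, ← LinearMap.lTensor_comp]
      rfl
    have heq : K = K''.map K.subtype := le_antisymm hle (Submodule.map_subtype_le _ _)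
    rw [heq]
    exact (Module.Finite.iff_fg.mp hfin).map _
  have h1 : u.rTensor K z' = 0 := by
    have hinj : Function.Injective (K.subtype.lTensor M) :=
      Module.Flat.lTensor_preserves_injective_linearMap _ K.injective_subtype
    apply hinj
    rw [map_zero, ← hz, ← LinearMap.comp_apply, ← LinearMap.comp_apply, LinearMap.lTensor_comp_rTensor,
      LinearMap.rTensor_comp_lTensor]
  let P : Submodule A K := maximalIdeal A • ⊤
  have h2 : P.mkQ.lTensor N z' = 0 := by
    have hinj : Function.Injective (u.lTensor (K ⧸ P)) := by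
      refine rTensor_injective_of_killed u hu fun a ha v => ?_
      obtain ⟨v, rfl⟩ := P.mkQ_surjective v
      rw [← map_smul]
      exact (Submodule.Quotient.mk_eq_zero P).mpr (Submodule.smul_mem_smul ha trivial)
    have hinj' : Function.Injective (u.rTensor (K ⧸ P)) :=
      (LinearMap.lTensor_inj_iff_rTensor_inj (M := K ⧸ P) (f := u)).mp hinj
    apply hinj'
    rw [map_zero, ← LinearMap.comp_apply, LinearMap.rTensor_comp_lTensor, ← LinearMap.lTensor_comp_rTensor,
      LinearMap.comp_apply, h1, map_zero]
  have hex : Function.Exact (P.subtype.lTensor N) (P.mkQ.lTensor N) :=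
    lTensor_exact N (LinearMap.exact_subtype_mkQ P) P.mkQ_surjective
  obtain ⟨w, hw⟩ := (hex z').mp h2
  have h3 : K ≤ P.map K.subtype := by
    apply hK
    refine ⟨((K.subtype.submoduleMap P).lTensor N) w, ?_⟩
    rw [← hw, ← LinearMap.comp_apply, ← LinearMap.comp_apply, ← LinearMap.lTensor_comp, ← LinearMap.lTensor_comp]
    rfl
  have h4 : K = ⊥ := by
    refine Submodule.eq_bot_of_le_smul_of_le_jacobson_bot (maximalIdeal A) K hfg ?_
      (IsLocalRing.maximalIdeal_le_jacobson ⊥)
    refine h3.trans ?_
    rw [Submodule.map_smul'', Submodule.map_top, Submodule.range_subtype]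
  have : Subsingleton K := by rw [h4]; infer_instance
  have : Subsingleton (N ⊗[A] K) := inferInstance
  rw [Subsingleton.elim z' 0, map_zero]

/-- Henselian base, finitely presented case: flatness of the source. -/
theorem flat_of_injective_residue {A B N M : Type u} [CommRing A] [HenselianLocalRing A] [CommRing B]
    [IsLocalRing B] [Algebra A B] [IsLocalHom (algebraMap A B)] (hfp : FlatCA.EssFinitePresentation A B)
    [Algebra.EssFiniteType A B]
    [AddCommGroup N] [Module A N] [Module B N] [IsScalarTower A B N] [Module.FinitePresentation B N]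
    [AddCommGroup M] [Module A M] [Module.Flat A M]
    (u : N →ₗ[A] M) (hu : Function.Injective (u.lTensor (ResidueField A))) : Module.Flat A N := by
  obtain ⟨I, hIm, hI, hfg⟩ := CorepMod.exists_corep_quot (A := A) (B := B) N
  let J : Ideal A := maximalIdeal A * I
  have hJI : J ≤ I := Ideal.mul_le_right
  let Ib : Ideal (A ⧸ J) := I.map (Ideal.Quotient.mkₐ A J)
  have hnil : IsNilpotent Ib := by
    refine ⟨2, ?_⟩
    rw [Ideal.zero_eq_bot, ← Ideal.map_pow, Ideal.map_eq_bot_iff_le_ker]
    intro x hx
    have h1 : x ∈ J := by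
      rw [pow_two] at hx
      exact Ideal.mul_mono_left hIm hx
    change Ideal.Quotient.mk J x = 0
    exact Ideal.Quotient.eq_zero_iff_mem.mpr h1
  have hkill : ∀ a ∈ maximalIdeal A, ∀ v : Ib, a • v = 0 := by
    rintro a ha ⟨v, hv⟩
    obtain ⟨i, hi, rfl⟩ := (Ideal.mem_map_iff_of_surjective _ (Ideal.Quotient.mkₐ_surjective A J)).mp hv
    apply Subtype.ext
    change a • (Ideal.Quotient.mk J i) = 0
    have : a • (Ideal.Quotient.mk J i) = Ideal.Quotient.mk J (a * i) := by
      rw [map_mul, Algebra.smul_def]
      rfl
    rw [this]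
    exact Ideal.Quotient.eq_zero_iff_mem.mpr (Ideal.mul_mem_mul ha hi)
  let uR : (A ⧸ J) ⊗[A] N →ₗ[A ⧸ J] (A ⧸ J) ⊗[A] M := u.baseChange (A ⧸ J)
  -- injectivity of `Ib ⊗ uR`
  have h1 : Function.Injective (uR.lTensor Ib) := by
    have h0 : Function.Injective (u.lTensor Ib) := rTensor_injective_of_killed u hu hkill
    have hc := AlgebraTensorModule.lTensor_comp_cancelBaseChange (R := A) (A := A ⧸ J)
      (B := A ⧸ J) (M := Ib) u
    have h2 : Function.Injective ((AlgebraTensorModule.cancelBaseChange A (A ⧸ J) (A ⧸ J) Ib M).toLinearMap ∘ₗ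
        AlgebraTensorModule.lTensor (A ⧸ J) Ib (AlgebraTensorModule.lTensor (R := A) (A ⧸ J) (A ⧸ J) u)) := by
      rw [← hc]
      exact h0.comp (AlgebraTensorModule.cancelBaseChange A (A ⧸ J) (A ⧸ J) Ib N).injective
    intro x y hxy
    exact h2 (congrArg (AlgebraTensorModule.cancelBaseChange A (A ⧸ J) (A ⧸ J) Ib M) hxy)
  have h2 : Function.Injective (Ib.subtype.rTensor ((A ⧸ J) ⊗[A] N)) := by
    have hM : Function.Injective (Ib.subtype.rTensor ((A ⧸ J) ⊗[A] M)) :=
      Module.Flat.rTensor_preserves_injective_linearMap _ (Submodule.injective_subtype _)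
    have h3 : Function.Injective ((uR.lTensor (A ⧸ J)) ∘ₗ (Ib.subtype.rTensor ((A ⧸ J) ⊗[A] N))) := by
      rw [LinearMap.lTensor_comp_rTensor, ← LinearMap.rTensor_comp_lTensor]
      exact hM.comp h1
    exact Function.Injective.of_comp h3
  have h3 : Module.Flat ((A ⧸ J) ⧸ Ib) (((A ⧸ J) ⧸ Ib) ⊗[A ⧸ J] ((A ⧸ J) ⊗[A] N)) := by
    have h4 : Module.Flat (A ⧸ I) ((A ⧸ I) ⊗[A] N) := (hI I hIm).mpr le_rfl
    have h5 : Module.Flat ((A ⧸ J) ⧸ Ib) (((A ⧸ J) ⧸ Ib) ⊗[A] N) :=
      Ega43.FlatDescNil.flat_of_algEquiv (DoubleQuot.quotQuotEquivQuotOfLEₐ A hJI).symm h4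
    exact (Module.Flat.equiv_iff
      (AlgebraTensorModule.cancelBaseChange A (A ⧸ J) ((A ⧸ J) ⧸ Ib) ((A ⧸ J) ⧸ Ib) N)).mpr h5
  have h4 : Module.Flat (A ⧸ J) ((A ⧸ J) ⊗[A] N) := FlatA.LocalCriterion.flat_of_isNilpotent Ib hnil h2 h3
  have h5 : I ≤ J := (hI J (hJI.trans hIm)).mp h4
  have h6 : I = ⊥ := Submodule.eq_bot_of_le_smul_of_le_jacobson_bot (maximalIdeal A) I (hfg hfp inferInstance)
    h5 (IsLocalRing.maximalIdeal_le_jacobson ⊥)
  apply CorepMod.flat_of_flat_quotient_bot
  exact (hI ⊥ bot_le).mpr h6.le

/-- Henselian base, finitely presented case. -/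
theorem rTensor_injective_of_henselian {A B N M : Type u} [CommRing A] [HenselianLocalRing A] [CommRing B]
    [IsLocalRing B] [Algebra A B] [IsLocalHom (algebraMap A B)] (hfp : FlatCA.EssFinitePresentation A B)
    [Algebra.EssFiniteType A B]
    [AddCommGroup N] [Module A N] [Module B N] [IsScalarTower A B N] [Module.FinitePresentation B N]
    [AddCommGroup M] [Module A M] [Module.Flat A M]
    (u : N →ₗ[A] M) (hu : Function.Injective (u.lTensor (ResidueField A))) :
    Module.Flat A N ∧ ∀ (Q : Type u) [AddCommGroup Q] [Module A Q], Function.Injective (u.rTensor Q) := by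
  have hflat : Module.Flat A N := flat_of_injective_residue (B := B) hfp u hu
  have hML : CAlg.IsMittagLeffler A N := S1215.result (B := B) N
  exact ⟨hflat, rTensor_injective_of_isMittagLeffler hML u hu⟩

end Groth.Agent.FlatMor.K255.MLInj
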