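import Groth.Agent.Proet.IndEtaleLift
import Groth.Agent.Proet.IndEtale
import Groth.Agent.Proet.IndZariski
import Groth.Agent.Hensel.LazardGlue
import Mathlib.RingTheory.Etale.Kaehler

set_option autoImplicit false
universe u

/-!
# The naive cotangent complex and ind-étale algebras
-/

namespace Groth.Agent.FlatMor.K255.NLIndEt

open Algebra TensorProduct

theorem formallyEtale_of_isIndEtale {A C : Type u} [CommRing A] [CommRing C] [Algebra A C]
    (h : EtPBC.IsIndEtale A C) : Algebra.FormallyEtale A C := by
  refine Hensel.LazardGlue.formallyEtale ?_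
  intro P _ _ _ φ
  obtain ⟨W, _, _, u, v, hW, huv⟩ := (Proet.IndEtale.isIndEtale_iff_factor A C).mp h P inferInstance φ
  exact ⟨W, _, _, hW, u, v, huv⟩

theorem mapKer_bijective {A B T : Type u} [CommRing A] [CommRing B] [CommRing T] [Algebra A B] [Algebra B T]
    [Algebra A T] [IsScalarTower A B T] {P : Extension.{u} A B} {Q : Extension.{u} A T} (f : P.Hom Q)
    [alg : Algebra P.Ring Q.Ring] (halg : algebraMap P.Ring Q.Ring = f.toRingHom) [hflat : Module.Flat P.Ring Q.Ring]
    (hker : Q.ker = P.ker.map (algebraMap P.Ring Q.Ring)) :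
    Function.Bijective ((f.mapKer halg).liftBaseChange Q.Ring) := by
  constructor
  · have hinj : Function.Injective (P.ker.subtype.lTensor Q.Ring) :=
      Module.Flat.lTensor_preserves_injective_linearMap _ (Submodule.injective_subtype _)
    intro x y hxy
    apply hinj
    apply (TensorProduct.rid P.Ring Q.Ring).injective
    have key : ∀ z : Q.Ring ⊗[P.Ring] P.ker, TensorProduct.rid P.Ring Q.Ring (P.ker.subtype.lTensor Q.Ring z) =
        (((f.mapKer halg).liftBaseChange Q.Ring) z : Q.ker).1 := by
      intro z
      induction z with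
      | zero => rw [map_zero, map_zero, map_zero]; rfl
      | add x y hx hy => rw [map_add, map_add, map_add, hx, hy]; rfl
      | tmul c p =>
        simp only [LinearMap.lTensor_tmul, TensorProduct.rid_tmul, LinearMap.liftBaseChange_tmul]
        change (p : P.Ring) • c = c * f.toRingHom p
        rw [Algebra.smul_def, mul_comm, halg]
    rw [key, key, hxy]
  · rintro ⟨x, hx⟩
    rw [hker] at hx
    refine Submodule.span_induction (p := fun x hx => ∃ z, (f.mapKer halg).liftBaseChange Q.Ring z =
      (⟨x, by rw [hker]; exact hx⟩ : Q.ker)) ?_ ?_ ?_ ?_ hx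
    · rintro _ ⟨p, hp, rfl⟩
      refine ⟨1 ⊗ₜ ⟨p, hp⟩, ?_⟩
      rw [LinearMap.liftBaseChange_tmul, one_smul]
      apply Subtype.ext
      exact (RingHom.congr_fun halg p).symm
    · exact ⟨0, map_zero _⟩
    · rintro x y _ _ ⟨a, ha⟩ ⟨b, hb⟩
      refine ⟨a + b, ?_⟩
      rw [map_add, ha, hb]
      rfl
    · rintro c x _ ⟨a, ha⟩
      refine ⟨c • a, ?_⟩
      rw [map_smul, ha]
      rfl

/-- Lifting an ind-étale algebra to an extension. -/
theorem exists_extension {A B T : Type u} [CommRing A] [CommRing B] [CommRing T] [Algebra A B] [Algebra B T]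
    [Algebra A T] [IsScalarTower A B T] (P : Extension.{u} A B) (h : EtPBC.IsIndEtale B T) :
    ∃ (Q : Extension.{u} A T) (f : P.Hom Q) (alg : Algebra P.Ring Q.Ring)
      (halg : algebraMap P.Ring Q.Ring = f.toRingHom), f.toRingHom.FormallyEtale ∧
      Function.Bijective ((f.mapKer halg).liftBaseChange Q.Ring) := by
  letI := ((algebraMap B T).comp (algebraMap P.Ring B)).toAlgebra
  haveI : IsScalarTower P.Ring B T := .of_algebraMap_eq' rfl
  haveI : IsScalarTower A P.Ring T := .of_algebraMap_eq fun r => by
    rw [IsScalarTower.algebraMap_apply A B T, IsScalarTower.algebraMap_apply A P.Ring B]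
    rfl
  obtain ⟨C, _, _, π, hC, hπs, hπk, -⟩ :=
    Proet.IndEtaleLift.exists_indEtale_lift (A := P.Ring) (R := B) (Cb := T) P.algebraMap_surjective h
  letI : Algebra A C := ((algebraMap P.Ring C).comp (algebraMap A P.Ring)).toAlgebra
  haveI : IsScalarTower A P.Ring C := .of_algebraMap_eq' rfl
  let Q : Extension.{u} A T := .ofSurjective (π.restrictScalars A) hπs
  let f : P.Hom Q :=
    { toRingHom := algebraMap P.Ring C
      toRingHom_algebraMap := fun x => (IsScalarTower.algebraMap_apply A P.Ring C x).symm
      algebraMap_toRingHom := fun x => π.commutes x }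
  letI alg : Algebra P.Ring Q.Ring := (inferInstance : Algebra P.Ring C)
  refine ⟨Q, f, alg, rfl, ?_, ?_⟩
  · exact RingHom.formallyEtale_algebraMap.mpr (formallyEtale_of_isIndEtale hC)
  · have hflat : Module.Flat P.Ring Q.Ring := Proet.IndZariski.flat_of_isIndEtale _ _ hC
    have hker : Q.ker = P.ker.map (algebraMap P.Ring Q.Ring) := hπk
    exact mapKer_bijective f rfl hker

set_option backward.isDefEq.respectTransparency false in
/-- For `B → T` ind-étale, `T ⊗ H₁(L_{B/A}) → H₁(L_{T/A})` is bijective. -/
theorem h1_bijective (A B T : Type u) [CommRing A] [CommRing B] [CommRing T] [Algebra A B] [Algebra B T]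
    [Algebra A T] [IsScalarTower A B T] (h : EtPBC.IsIndEtale B T) :
    Function.Bijective ((Algebra.H1Cotangent.map A A B T).liftBaseChange T) := by
  let P : Extension.{u} A B := (Generators.self A B).toExtension
  haveI hP : FormallySmooth A P.Ring := inferInstanceAs (FormallySmooth A (MvPolynomial _ _))
  obtain ⟨Q, f, alg, halg, h1, h2⟩ := exists_extension P h
  haveI hflat : Module.Flat B T := Proet.IndZariski.flat_of_isIndEtale _ _ h
  haveI : IsScalarTower A P.Ring Q.Ring := .of_algebraMap_eq fun r => by
    rw [halg]; exact (f.toRingHom_algebraMap r).symm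
  haveI : FormallyEtale P.Ring Q.Ring := by
    rw [← RingHom.formallyEtale_algebraMap, halg]; exact h1
  haveI hQ : FormallySmooth A Q.Ring := FormallySmooth.comp A P.Ring Q.Ring
  let P' : Extension.{u} A T := (Generators.self A T).toExtension
  haveI hP' : FormallySmooth A P'.Ring := inferInstanceAs (FormallySmooth A (MvPolynomial _ _))
  let φ : P.Hom P' := ((Generators.self A B).defaultHom (Generators.self A T)).toExtensionHom
  let g : P'.Hom Q :=
    { toRingHom := (MvPolynomial.aeval Q.σ).toRingHom
      toRingHom_algebraMap := (MvPolynomial.aeval Q.σ).commutes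
      algebraMap_toRingHom := by
        have : (IsScalarTower.toAlgHom A Q.Ring T).comp (MvPolynomial.aeval Q.σ) =
            IsScalarTower.toAlgHom _ (Generators.self A T).toExtension.Ring _ := by
          ext i
          change _ = algebraMap (Generators.self A T).Ring _ (.X i)
          simp
        exact DFunLike.congr_fun this }
  have hg : Function.Bijective (Extension.H1Cotangent.map g) := by
    rw [← Extension.H1Cotangent.equivOfFormallySmooth_toLinearMap g]
    exact LinearEquiv.bijective _
  have hf : Function.Bijective ((Extension.H1Cotangent.map f).liftBaseChange T) :=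
    (Extension.tensorH1CotangentOfFormallyEtale f halg h1 h2).bijective
  have hcomp : (Extension.H1Cotangent.map g) ∘ₗ ((Extension.H1Cotangent.map φ).liftBaseChange T) =
      (Extension.H1Cotangent.map f).liftBaseChange T := by
    ext x
    simp only [AlgebraTensorModule.curry_apply, curry_apply, LinearMap.coe_restrictScalars,
      LinearMap.coe_comp, Function.comp_apply, LinearMap.liftBaseChange_tmul, one_smul]
    rw [← Extension.H1Cotangent.map_comp_apply, Extension.H1Cotangent.map_eq]
  have h3 : Function.Bijective ((Extension.H1Cotangent.map φ).liftBaseChange T) := by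
    have h4 : Function.Bijective ((Extension.H1Cotangent.map g) ∘ ((Extension.H1Cotangent.map φ).liftBaseChange T)) := by
      have : ⇑(Extension.H1Cotangent.map g) ∘ ⇑((Extension.H1Cotangent.map φ).liftBaseChange T) =
        ⇑((Extension.H1Cotangent.map f).liftBaseChange T) := by rw [← hcomp]; rfl
      rw [this]; exact hf
    exact (Function.Bijective.of_comp_iff' hg _).mp h4
  exact h3

end Groth.Agent.FlatMor.K255.NLIndEt
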