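import Groth.Agent.FlatMor.K255.NLIndEt
import Groth.Agent.FlatMor.K255.DblQis
import Groth.Agent.FlatMor.K253.NLMaps

set_option autoImplicit false
universe u

/-!
# The naive cotangent complex and ind-étale algebras, quasi-isomorphism
-/

namespace Groth.Agent.FlatMor.K255.NLIndEt2

open Algebra TensorProduct CategoryTheory

section

variable {A A' T : Type u} [CommRing A] [CommRing A'] [CommRing T] [Algebra A A'] [Algebra A' T] [Algebra A T]
  [IsScalarTower A A' T]

set_option backward.isDefEq.respectTransparency false in
theorem h1_map_injective [hA : FormallyEtale A A'] :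
    Function.Injective (Algebra.H1Cotangent.map A A' T T) := by
  let Q := Generators.self A' T
  let P := Generators.self A A'
  let W := Generators.self A T
  have hP : Function.Bijective P.toExtension.cotangentComplex := by
    constructor
    · rw [← LinearMap.ker_eq_bot]
      have h1 : Subsingleton P.toExtension.H1Cotangent := (inferInstance : Subsingleton (Algebra.H1Cotangent A A'))
      exact (Submodule.subsingleton_iff_eq_bot).mp h1
    · intro x
      have h2 : Subsingleton (Ω[A'⁄A]) := inferInstance
      exact (P.toExtension.exact_cotangentComplex_toKaehler x).mp (Subsingleton.elim _ _)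
  have hPT : Function.Injective (P.toExtension.cotangentComplex.baseChange T) :=
    ((LinearEquiv.ofBijective _ hP).baseChange A' T _ _).injective
  have key : Function.Injective (Extension.H1Cotangent.map (Generators.ofComp Q P).toExtensionHom) := by
    rw [injective_iff_map_eq_zero]
    rintro ⟨x, x_in⟩ hx
    replace hx : Extension.Cotangent.map (Q.ofComp P).toExtensionHom x = 0 := by
      simpa [← Extension.h1Cotangentι_injective.eq_iff] using hx
    rw [← LinearMap.mem_ker, (Generators.Cotangent.exact Q P).linearMap_ker_eq] at hx
    rcases hx with ⟨x, rfl⟩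
    rw [LinearMap.mem_ker, ← LinearMap.comp_apply, ← Generators.H1Cotangent.map_comp_cotangentComplex_baseChange,
      LinearMap.comp_apply,
      ← LinearMap.mem_ker, LinearMap.ker_eq_bot.mpr (Generators.CotangentSpace.map_toComp_injective Q P),
      Submodule.mem_bot] at x_in
    have hx0 : x = 0 := hPT (by rw [map_zero]; exact x_in)
    subst hx0
    ext
    simp
  let f : W.Hom Q := Generators.defaultHom _ _
  have h2 : Extension.H1Cotangent.map f.toExtensionHom =
      (Extension.H1Cotangent.map (Generators.ofComp Q P).toExtensionHom) ∘ₗ
        (Extension.H1Cotangent.map (W.defaultHom (Q.comp P)).toExtensionHom) := by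
    change _ = (Extension.H1Cotangent.map (Generators.ofComp Q P).toExtensionHom).restrictScalars T ∘ₗ _
    rw [← Extension.H1Cotangent.map_comp, Extension.H1Cotangent.map_eq]
  have h3 : Function.Injective (Extension.H1Cotangent.map (W.defaultHom (Q.comp P)).toExtensionHom) :=
    (Generators.H1Cotangent.equiv W (Q.comp P)).injective
  have h4 : Function.Injective (Extension.H1Cotangent.map f.toExtensionHom) := by
    rw [h2]
    exact key.comp h3
  exact h4

theorem h1_map_bijective [hA : FormallyEtale A A'] :
    Function.Bijective (Algebra.H1Cotangent.map A A' T T) := by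
  refine ⟨h1_map_injective, fun x => ?_⟩
  have h2 : Subsingleton (Ω[A'⁄A]) := inferInstance
  exact (H1Cotangent.exact_map_δ A A' T x).mp (Subsingleton.elim _ _)

theorem kaehler_map_bijective [hA : FormallyEtale A A'] :
    Function.Bijective (KaehlerDifferential.map A A' T T) := by
  refine ⟨?_, KaehlerDifferential.map_surjective A A' T⟩
  rw [injective_iff_map_eq_zero]
  intro x hx
  have h2 : Subsingleton (Ω[A'⁄A]) := inferInstance
  obtain ⟨y, rfl⟩ := (KaehlerDifferential.exact_mapBaseChange_map A A' T x).mp hx
  rw [Subsingleton.elim y 0, map_zero]

end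

section

variable {A B A' T : Type u} [CommRing A] [CommRing B] [CommRing A'] [CommRing T] [Algebra A B] [Algebra B T]
  [Algebra A A'] [Algebra A' T] [Algebra A T] [IsScalarTower A A' T] [IsScalarTower A B T]

theorem bcH0_bijective [hA : FormallyEtale A A'] [hB : FormallyEtale B T] :
    Function.Bijective (NLCx.bcH0Map A B A' T) := by
  have h1 : Function.Bijective (KaehlerDifferential.mapBaseChange A B T) :=
    (KaehlerDifferential.tensorKaehlerEquivOfFormallyEtale A B T).bijective
  have h2 : Function.Bijective (KaehlerDifferential.map A A' T T) := kaehler_map_bijective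
  have h3 : ⇑(NLCx.bcH0Map A B A' T) = KaehlerDifferential.map A A' T T ∘ KaehlerDifferential.mapBaseChange A B T := by
    funext x
    induction x with
    | zero => simp
    | add x y hx hy => rw [map_add, hx, hy]; simp
    | tmul t w =>
      simp only [NLCx.bcH0Map, LinearMap.liftBaseChange_tmul, Function.comp_apply,
        KaehlerDifferential.mapBaseChange_tmul]
      rw [map_smul]
      congr 1
      have := KaehlerDifferential.span_range_derivation A B
      have hw : w ∈ Submodule.span B (Set.range (KaehlerDifferential.D A B)) := this ▸ Submodule.mem_top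
      induction hw using Submodule.span_induction with
      | mem x hx =>
        obtain ⟨b, rfl⟩ := hx
        simp [KaehlerDifferential.map_D]
      | zero => simp
      | add x y _ _ hx hy => rw [map_add, map_add, map_add, hx, hy]
      | smul b x _ hx =>
        rw [map_smul, map_smul, hx, ← algebraMap_smul T b (KaehlerDifferential.map A A B T x), map_smul,
          algebraMap_smul]
  rw [h3]
  exact h2.comp h1

theorem h1_lift_bijective [hA : FormallyEtale A A'] (h : EtPBC.IsIndEtale B T) :
    Function.Bijective ((Algebra.H1Cotangent.map A A' B T).liftBaseChange T) := by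
  have h1 := NLIndEt.h1_bijective A B T h
  have h2 : Function.Bijective (Algebra.H1Cotangent.map A A' T T) := h1_map_bijective
  have h3 : ⇑((Algebra.H1Cotangent.map A A' B T).liftBaseChange T) =
      (Algebra.H1Cotangent.map A A' T T) ∘ ((Algebra.H1Cotangent.map A A B T).liftBaseChange T) := by
    funext x
    induction x with
    | zero => simp
    | add x y hx hy => rw [map_add, hx, hy]; simp
    | tmul t w =>
      simp only [LinearMap.liftBaseChange_tmul, Function.comp_apply, map_smul]
      congr 1
      change Extension.H1Cotangent.map _ w = Extension.H1Cotangent.map _ (Extension.H1Cotangent.map _ w)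
      rw [← Extension.H1Cotangent.map_comp_apply, Extension.H1Cotangent.map_eq]
  rw [h3]
  exact h2.comp h1

theorem quasiIso_bcMapSelf [hA : FormallyEtale A A'] (h : EtPBC.IsIndEtale B T) :
    QuasiIso (NLCx.bcMapSelf A B A' T) := by
  have hflat : Module.Flat B T := Proet.IndZariski.flat_of_isIndEtale _ _ h
  have hB : FormallyEtale B T := NLIndEt.formallyEtale_of_isIndEtale h
  let P := (Generators.self A B).toExtension
  let P' := (Generators.self A' T).toExtension
  let f : P.Hom P' := ((Generators.self A B).defaultHom (Generators.self A' T)).toExtensionHom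
  have h1 : Function.Bijective ((Extension.H1Cotangent.map f).liftBaseChange T) := h1_lift_bijective h
  have h0 : Function.Bijective (NLCx.bcH0Map A B A' T) := bcH0_bijective
  have hex : Function.Exact ((Extension.h1Cotangentι (P := P)).baseChange T) (P.cotangentComplex.baseChange T) :=
    Module.Flat.lTensor_exact T (LinearMap.exact_subtype_ker_map _)
  have hco : ∀ z : T ⊗[B] P.H1Cotangent, ((Extension.Cotangent.map f).liftBaseChange T)
      ((Extension.h1Cotangentι (P := P)).baseChange T z) = ((Extension.H1Cotangent.map f).liftBaseChange T z).1 := by
    intro z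
    induction z with
    | zero => simp
    | add x y hx hy => rw [map_add, map_add, map_add, hx, hy]; rfl
    | tmul t w => simp
  have hexK : Function.Exact (P.cotangentComplex.baseChange T) (P.toKaehler.baseChange T) :=
    lTensor_exact T P.exact_cotangentComplex_toKaehler P.toKaehler_surjective
  have hsurjK : Function.Surjective (P.toKaehler.baseChange T) :=
    LinearMap.lTensor_surjective T P.toKaehler_surjective
  have hcoK : ∀ z : T ⊗[B] P.CotangentSpace, P'.toKaehler ((Extension.CotangentSpace.map f).liftBaseChange T z) =
      NLCx.bcH0Map A B A' T (P.toKaehler.baseChange T z) := by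
    have hlin : P'.toKaehler ∘ₗ (Extension.CotangentSpace.map f).liftBaseChange T =
        NLCx.bcH0Map A B A' T ∘ₗ P.toKaehler.baseChange T := by
      apply ((Generators.self A B).cotangentSpaceBasis.baseChange T).ext
      intro i
      rw [Module.Basis.baseChange_apply, LinearMap.comp_apply, LinearMap.comp_apply,
        LinearMap.liftBaseChange_tmul, one_smul, LinearMap.baseChange_tmul, NLCx.bcH0Map,
        LinearMap.liftBaseChange_tmul, one_smul]
      have e1 : P.toKaehler ((Generators.self A B).cotangentSpaceBasis i) = KaehlerDifferential.D A B i :=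
        (Generators.self A B).toKaehler_cotangentSpaceBasis i
      have e2 : (Extension.CotangentSpace.map f) ((Generators.self A B).cotangentSpaceBasis i) =
          (Generators.self A' T).cotangentSpaceBasis (algebraMap B T i) := by
        rw [Generators.cotangentSpaceBasis_apply, Generators.cotangentSpaceBasis_apply]
        refine (Extension.CotangentSpace.map_tmul f (1 : B) (MvPolynomial.X i : MvPolynomial B A)).trans ?_
        rw [map_one]
        have e3 : f.toAlgHom (MvPolynomial.X i : MvPolynomial B A) =
            (MvPolynomial.X (algebraMap B T i) : MvPolynomial T A') := by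
          change ((Generators.self A B).defaultHom (Generators.self A' T)).toAlgHom (MvPolynomial.X i) = _
          simp [Generators.defaultHom]
        rw [e3]
        rfl
      rw [e1, KaehlerDifferential.map_D, e2]
      exact (Generators.self A' T).toKaehler_cotangentSpaceBasis (algebraMap B T i)
    exact LinearMap.congr_fun hlin
  change QuasiIso (NLCx.bcMap f)
  rw [K253.NLMaps.bcMap_eq]
  apply DblQis.quasiIso_dblMap
  · intro x hx hax
    obtain ⟨z, rfl⟩ := (hex x).mp hx
    have : (Extension.H1Cotangent.map f).liftBaseChange T z = 0 := by
      apply Subtype.ext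
      rw [← hco]
      exact hax
    rw [h1.1 (this.trans (map_zero _).symm), map_zero]
  · intro y hy
    obtain ⟨z, hz⟩ := h1.2 ⟨y, hy⟩
    refine ⟨(Extension.h1Cotangentι (P := P)).baseChange T z, (hex _).mpr ⟨z, rfl⟩, ?_⟩
    refine (hco z).trans ?_
    rw [hz]
  · rintro n ⟨m, hm⟩
    apply (hexK n).mp
    apply h0.1
    rw [map_zero, ← hcoK]
    exact (P'.exact_cotangentComplex_toKaehler _).mpr ⟨m, hm⟩
  · intro n'
    obtain ⟨w, hw⟩ := h0.2 (P'.toKaehler n')
    obtain ⟨n, rfl⟩ := hsurjK w
    rw [← hcoK] at hw
    obtain ⟨m', hm'⟩ := (P'.exact_cotangentComplex_toKaehler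
      (n' - ((Extension.CotangentSpace.map f).liftBaseChange T n))).mp (by
        rw [map_sub, hw, sub_self])
    refine ⟨n, m', ?_⟩
    have : n' = (Extension.CotangentSpace.map f).liftBaseChange T n + P'.cotangentComplex m' := by
      rw [hm']; abel
    exact this

end

end Groth.Agent.FlatMor.K255.NLIndEt2
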