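import Groth.Agent.Flat2A.ImpurityBC
import Groth.Agent.S1217
import Groth.Agent.S1246
import Groth.Agent.Flat2B.RelAss
import Groth.Agent.S1247
import Groth.Agent.S9000
import Groth.Agent.Sga4B.StrictHensTools

set_option autoImplicit false
universe u

/-!
# Impurities over a Noetherian local ring and over its henselization
-/

namespace Groth.Agent.FlatMor.K255.PureLoc

open TensorProduct IsLocalRing

/-- Over a Noetherian local ring, an impurity above the closed point gives one over the henselization. -/
theorem hasImpurity_henselization {R B : Type u} [CommRing R] [IsLocalRing R] [IsNoetherianRing R] [CommRing B]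
    [Algebra R B] [Algebra.FiniteType R B] (N : Type u) [AddCommGroup N] [Module B N] [Module.Finite B N]
    (h : FlatCA.HasImpurity R B N (maximalIdeal R) (fun _ _ _ _ => True)) :
    FlatCA.HasImpurity R B N (maximalIdeal R) (fun S _ _ t => ∃ (_ : IsLocalRing S)
      (_ : IsLocalHom (algebraMap R S)), Hensel.IsHenselization R S ∧ t = maximalIdeal S) := by
  have h4 := S9000.result N (maximalIdeal R) (S1246.result N (maximalIdeal R) (S1247.result N (maximalIdeal R) h))
  rw [Flat2A.ImpurityBC.hasImpurity_iff] at h4 ⊢
  obtain ⟨S, _, _, q', q, _, _, hq, ⟨_, _, _, _, hS, rfl⟩, himp'⟩ := h4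
  have hself : IsLocalization (maximalIdeal R).primeCompl R := IsLocalization.self fun x hx => by
    rw [Ideal.mem_primeCompl_iff, mem_maximalIdeal, mem_nonunits_iff, not_not] at hx
    exact hx
  let e : R ≃ₐ[R] Localization.AtPrime (maximalIdeal R) :=
    IsLocalization.algEquiv (maximalIdeal R).primeCompl _ _
  have he : ∀ r, algebraMap R S r = algebraMap (Localization.AtPrime (maximalIdeal R)) S (e r) := fun r => by
    rw [IsScalarTower.algebraMap_apply R (Localization.AtPrime (maximalIdeal R)) S]
    congr 1
    exact (e.commutes r).symm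
  have hloc : IsLocalHom (algebraMap R S) := by
    refine ⟨fun a ha => ?_⟩
    rw [he] at ha
    have h1 := isUnit_of_map_unit _ _ ha
    have h2 := h1.map e.symm
    rwa [AlgEquiv.symm_apply_apply] at h2
  have hS' : Hensel.IsHenselization R S :=
    Sga4B.StrictHensTools.isHenselization_of_ringEquiv
      (Localization.AtPrime (maximalIdeal R)) R S e.toRingEquiv he
  exact ⟨S, inferInstance, inferInstance, q', maximalIdeal S, inferInstance, inferInstance, hq,
    ⟨inferInstance, hloc, hS', rfl⟩, himp'⟩

/-- Universal purity along the fibre over the prime under the closed point of a Noetherian local ring `R`, flat over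
`A`, if there is no impurity over the henselization of `R`. -/
theorem isUnivPureAlong_of_not_hasImpurity_henselization {A B R BR NR : Type u} [CommRing A] [CommRing B] [Algebra A B]
    [Algebra.FiniteType A B] (N : Type u) [AddCommGroup N] [Module B N] [Module.Finite B N] (p : Ideal A) [p.IsPrime]
    [CommRing R] [IsLocalRing R] [IsNoetherianRing R] [Algebra A R] [Module.Flat A R]
    [hm : (maximalIdeal R).LiesOver p] [CommRing BR] [Algebra R BR] [Algebra B BR] [Algebra A BR]
    [IsScalarTower A R BR] [IsScalarTower A B BR] [hpush : Algebra.IsPushout A B R BR] [AddCommGroup NR]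
    [Module BR NR] [Module B NR] [IsScalarTower B BR NR] (f : N →ₗ[B] NR) (hf : IsBaseChange BR f)
    (H : ¬ FlatCA.HasImpurity A B N p (fun S _ _ t => ∃ (_ : IsLocalRing S) (_ : Algebra R S)
      (_ : IsScalarTower A R S) (_ : IsLocalHom (algebraMap R S)), Hensel.IsHenselization R S ∧ t = maximalIdeal S)) :
    FlatCA.IsUnivPureAlong A B N p := by
  have hBR : Algebra.FiniteType R BR := Flat2B.RelAss.finiteType_of_isPushout (A₁ := A) (B₁ := B)
  have hNR : Module.Finite BR NR := Module.Finite.equiv hf.equiv
  have hself : IsLocalization (maximalIdeal R).primeCompl R := IsLocalization.self fun x hx => by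
    rw [Ideal.mem_primeCompl_iff, mem_maximalIdeal, mem_nonunits_iff, not_not] at hx
    exact hx
  have hflat : Module.Flat A (Localization.AtPrime (maximalIdeal R)) := Module.Flat.trans A R _
  refine (S1217.result N p R BR NR f hf (maximalIdeal R)).2 ?_
  rw [Flat2A.ImpurityBC.isUnivPureAlong_iff]
  intro A₂ _ _ t' t _ _ hover himp
  have h1 : FlatCA.HasImpurity R BR NR (maximalIdeal R) (fun _ _ _ _ => True) := by
    rw [Flat2A.ImpurityBC.hasImpurity_iff]
    exact ⟨A₂, inferInstance, inferInstance, t', t, inferInstance, inferInstance, hover, trivial, himp⟩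
  have h4 := hasImpurity_henselization NR h1
  rw [Flat2A.ImpurityBC.hasImpurity_iff] at h4
  obtain ⟨S, _, _, q', q, _, _, hq, ⟨_, hloc, hS, rfl⟩, himp'⟩ := h4
  let _ : Algebra A S := ((algebraMap R S).comp (algebraMap A R)).toAlgebra
  have _ : IsScalarTower A R S := .of_algebraMap_eq' rfl
  rw [Flat2A.ImpurityBC.imp_baseChange_iff (A := A) (B := B) hpush f hf] at himp'
  have hqp : (maximalIdeal S).LiesOver p := Ideal.LiesOver.trans (maximalIdeal S) (maximalIdeal R) p
  apply H
  rw [Flat2A.ImpurityBC.hasImpurity_iff]
  exact ⟨S, inferInstance, inferInstance, q', maximalIdeal S, inferInstance, inferInstance, hqp,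
    ⟨inferInstance, inferInstance, inferInstance, hloc, hS, rfl⟩, himp'⟩

attribute [local instance] Algebra.TensorProduct.rightAlgebra in
/-- The same with the tensor product models. -/
theorem isUnivPureAlong_of_not_hasImpurity_henselization' {A B : Type u} (R : Type u) [CommRing A] [CommRing B]
    [Algebra A B] [Algebra.FiniteType A B] (N : Type u) [AddCommGroup N] [Module B N] [Module.Finite B N]
    (p : Ideal A) [p.IsPrime] [CommRing R] [IsLocalRing R] [IsNoetherianRing R] [Algebra A R] [Module.Flat A R]
    [hm : (maximalIdeal R).LiesOver p]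
    (H : ¬ FlatCA.HasImpurity A B N p (fun S _ _ t => ∃ (_ : IsLocalRing S) (_ : Algebra R S)
      (_ : IsScalarTower A R S) (_ : IsLocalHom (algebraMap R S)), Hensel.IsHenselization R S ∧ t = maximalIdeal S)) :
    FlatCA.IsUnivPureAlong A B N p :=
  isUnivPureAlong_of_not_hasImpurity_henselization (R := R) (BR := R ⊗[A] B) (NR := (R ⊗[A] B) ⊗[B] N) N p
      (TensorProduct.mk B (R ⊗[A] B) N 1) (TensorProduct.isBaseChange _ _ _) H

end Groth.Agent.FlatMor.K255.PureLoc
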