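import Groth.Agent.Flat2C.FlatSec
import Groth.Agent.Flat2G.RelAssSch
import Groth.Agent.Flat2G.RelAssVal3
import Groth.Agent.Flat2G.AffPrimes
import Groth.Agent.S1201
import Groth.Agent.CohqB.FiniteType2
import Groth.Prelude.Def_MoreMor

set_option autoImplicit false
universe u

/-!
# Flatness at a point from flatness at the relative associated points of the fibre specializing to it
-/

open CategoryTheory CategoryTheory.Limits AlgebraicGeometry TopologicalSpace

namespace Groth.Agent.FlatMor.K255.RelAssFlat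

theorem isFlatOverAt_of_relAss {X S : Scheme.{u}} (f : X ⟶ S) [LocallyOfFiniteType f] (F : X.Modules)
    (hq : Coh.IsQCoh F) (hF : CohB1.IsFT F) (x : X)
    (h : ∀ x' ∈ MoreMor.relAss f F, x' ⤳ x → f x' = f x → FlatMod.IsFlatOverAt f F x') :
    FlatMod.IsFlatOverAt f F x := by
  obtain ⟨W, hW, hxW, -⟩ := exists_isAffineOpen_mem_and_subset (X := S) (x := f x) (U := ⊤) trivial
  obtain ⟨U, hU, hxU, hUW⟩ := exists_isAffineOpen_mem_and_subset (X := X) (x := x) (U := f ⁻¹ᵁ W) hxW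
  have e : U ≤ f ⁻¹ᵁ W := hUW
  have hfin : Module.Finite Γ(X, U) Γ(F, U) := CohqB.FiniteType2.finite_sections_of_isFT F hF hU
  let i1 : Algebra Γ(S, W) Γ(X, U) := Flat2C.FlatSec.algebraOver f e
  let i2 : Module Γ(S, W) Γ(F, U) := Flat2C.FlatSec.moduleOver f F e
  have i3 : IsScalarTower Γ(S, W) Γ(X, U) Γ(F, U) := Flat2C.FlatSec.isScalarTower_over f F e
  have hft : Algebra.FiniteType Γ(S, W) Γ(X, U) := f.finiteType_appLE hW hU e
  have hover : (hU.primeIdealOf ⟨x, hxU⟩).asIdeal.LiesOver (hW.primeIdealOf ⟨f x, e hxU⟩).asIdeal :=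
    ⟨(Flat2G.RelAssSch.primeIdealOf_under f hU hW e x hxU).symm⟩
  refine (Flat2C.FlatSec.isFlatOverAt_iff_flatAt f F hU hW e hq x hxU).mpr ?_
  refine (S1201.result Γ(F, U) (hW.primeIdealOf ⟨f x, e hxU⟩).asIdeal (hU.primeIdealOf ⟨x, hxU⟩).asIdeal).mpr ?_
  intro q' _ hle hov hass
  let z : X := hU.fromSpec ⟨q', inferInstance⟩
  have hzU : z ∈ U := Flat2G.AffPrimes.fromSpec_mem hU _
  have hzx' : (hU.primeIdealOf ⟨z, hzU⟩).asIdeal = q' := by
    rw [Flat2G.AffPrimes.primeIdealOf_fromSpec hU ⟨q', inferInstance⟩]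
  have hzx : z ⤳ x := by
    rw [← Flat2G.AffPrimes.primeIdealOf_le_iff hU z x hzU hxU, hzx']
    exact hle
  have hfz : f z = f x := by
    apply Flat2G.AffPrimes.primeIdealOf_injective hW (f z) (f x) (e hzU) (e hxU)
    rw [← Flat2G.RelAssSch.primeIdealOf_under f hU hW e z hzU, hzx']
    exact hov.over.symm
  have hra : z ∈ MoreMor.relAss f F := by
    rw [Flat2G.RelAssSch.mem_relAss_iff f F hq hU hW e z hzU, hzx']
    have h1 := Flat2G.RelAssVal.ra_of_mem_associatedPrimes (A := Γ(S, W)) (B := Γ(X, U)) (M := Γ(F, U))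
      (hW.primeIdealOf ⟨f x, e hxU⟩).asIdeal q'
      ((Flat2A.FiberAss.mem_associatedPrimes_fiberMod_iff _ _ _).mpr ⟨inferInstance, hov, hass⟩)
    rw [hov.over] at h1
    exact h1
  have h2 := (Flat2C.FlatSec.isFlatOverAt_iff_flatAt f F hU hW e hq z hzU).mp (h z hra hzx hfz)
  have key : ∀ (Q : Ideal Γ(X, U)) [Q.IsPrime], Q = q' → FlatCA.FlatAt Γ(S, W) Q Γ(F, U) →
      FlatCA.FlatAt Γ(S, W) q' Γ(F, U) := by
    rintro Q _ rfl h
    exact h
  exact key _ hzx' h2

end Groth.Agent.FlatMor.K255.RelAssFlat
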