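import Groth.Agent.Flat2F.DescLocal3
import Groth.Agent.Flat2F.RepH0

/-!
# Spreading out trivialisations from a local scheme of the base

`f : X ⟶ S` proper, flat, locally of finite presentation, `E` finite locally free. If `E` becomes free over
`Spec O_{S,s}`, then it is free over `f ⁻¹ V` for an open neighbourhood `V` of `s`.
-/

set_option autoImplicit false
set_option linter.style.haveILetI false
universe u
open CategoryTheory CategoryTheory.Limits AlgebraicGeometry TopologicalSpace Opposite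

namespace Groth.Agent.FlatMor.K255.SpreadBas

open Groth.Agent.Flat2F.SecBasis Groth.Agent.Flat2F.BasAlg Groth.Agent.Flat2F.BCSec
open Groth.Agent.Flat2F.LocBas Groth.Agent.Flat2F.DescLocal

section Affine

variable {A : CommRingCat.{u}} {X X' : Scheme.{u}} {f : X ⟶ Spec A} {E : X.Modules} (R : RepH0 f E)

/-- Maps to a localization have a multiple which lifts. -/
theorem exists_lift_smul {A B M : Type u} [CommRing A] [CommRing B] [Algebra A B] [AddCommGroup M] [Module A M]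
    [Module.FinitePresentation A M] (p : Ideal A) [p.IsPrime] [IsLocalization.AtPrime B p] {n : ℕ}
    (α : Fin n → (M →ₗ[A] B)) :
    ∃ g : A, g ∉ p ∧ ∀ i, ∃ β : M →ₗ[A] A, ∀ m, algebraMap A B (β m) = algebraMap A B g * α i m := by
  have h : ∀ i, ∃ g : A, g ∉ p ∧ ∃ β : M →ₗ[A] A, ∀ m, algebraMap A B (β m) = algebraMap A B g * α i m := by
    intro i
    obtain ⟨β, g, hg⟩ := Module.FinitePresentation.exists_lift_of_isLocalizedModule p.primeCompl
      (Algebra.linearMap A B) (α i)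
    refine ⟨g, g.2, β, fun m => ?_⟩
    have h1 := LinearMap.congr_fun hg m
    simp only [LinearMap.comp_apply, Algebra.linearMap_apply, LinearMap.smul_apply] at h1
    rw [h1]
    exact Algebra.smul_def _ _
  choose g hg β hβ using h
  refine ⟨∏ i, g i, ?_, fun i => ⟨(∏ j ∈ Finset.univ.erase i, g j) • β i, fun m => ?_⟩⟩
  · intro hmem
    obtain ⟨i, -, hi⟩ := (Ideal.IsPrime.prod_mem_iff (s := Finset.univ)).mp hmem
    exact hg i hi
  · rw [LinearMap.smul_apply, smul_eq_mul, map_mul, hβ, ← mul_assoc, ← map_mul]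
    congr 2
    rw [mul_comm]
    exact (Finset.mul_prod_erase Finset.univ g (Finset.mem_univ i))

theorem theta_congr {B : CommRingCat.{u}} {φ φ' : A ⟶ B} (h : φ = φ') {a : X' ⟶ X} {p' : X' ⟶ Spec B}
    (H : IsPullback a p' f (Spec.map φ)) (H' : IsPullback a p' f (Spec.map φ'))
    (α : R.M →ₛₗ[φ.hom] B) (α' : R.M →ₛₗ[φ'.hom] B) (hα : ∀ m, α m = α' m) : R.θ H α = R.θ H' α' := by
  subst h
  rw [show α = α' from LinearMap.ext hα]

theorem basOn_smul_of_isUnit {Y : Scheme.{u}} {M : Y.Modules} {U : Y.Opens} {n : ℕ} {e : Fin n → Γ(M, U)}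
    (c : Γ(Y, U)) (hc : IsUnit c) (he : BasOn M U e) : BasOn M U (fun i => c • e i) := by
  obtain ⟨c, rfl⟩ := hc
  refine basOn_of_matrix (Matrix.diagonal fun _ => ((c⁻¹ : Γ(Y, U)ˣ) : Γ(Y, U))) ?_ (fun i => ?_) he
  · rw [Matrix.det_diagonal, Finset.prod_const]
    exact (c⁻¹).isUnit.pow _
  · rw [Finset.sum_eq_single i]
    · rw [Matrix.diagonal_apply_eq, smul_smul, Units.inv_mul, one_smul]
    · intro j _ hj
      rw [Matrix.diagonal_apply_ne _ hj.symm, zero_smul]
    · simp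

include R in
/-- **Spreading out a basis** over an affine base. -/
theorem exists_nhd_affine [IsProper f] (hE : FlatMod.IsFinLocFree E) (p : PrimeSpectrum A)
    {B : CommRingCat.{u}} {φ : A ⟶ B} (hloc : @IsLocalization.AtPrime _ _ B _ φ.hom.toAlgebra p.asIdeal _)
    {a : X' ⟶ X} {p' : X' ⟶ Spec B} (H : IsPullback a p' f (Spec.map φ)) {n : ℕ}
    (e : Fin n → Γ((Scheme.Modules.pullback a).obj E, ⊤)) (he : BasOn _ ⊤ e)
    (b : Spec B) (hb : (Spec.map φ).base b = p) :
    ∃ (V : (Spec A).Opens) (s : Fin n → Γ(E, f ⁻¹ᵁ V)), p ∈ V ∧ BasOn E (f ⁻¹ᵁ V) s := by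
  letI := φ.hom.toAlgebra
  have hfp := R.fp
  choose α hα using fun i => (R.bij H).2 (e i)
  let α' : Fin n → (R.M →ₗ[A] B) := fun i =>
    { toFun := α i
      map_add' := map_add (α i)
      map_smul' := fun c m => by
        rw [LinearMap.map_smulₛₗ, RingHom.id_apply]
        rfl }
  obtain ⟨g, hg, hβ⟩ := exists_lift_smul (B := B) p.asIdeal α'
  choose β hβ using hβ
  have H₀ : IsPullback (𝟙 X) f f (Spec.map (𝟙 A)) := by
    rw [Spec.map_id]
    exact IsPullback.of_horiz_isIso ⟨by simp⟩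
  let β' : Fin n → (R.M →ₛₗ[(𝟙 A : A ⟶ A).hom] A) := fun i =>
    { toFun := β i
      map_add' := map_add (β i)
      map_smul' := fun c m => (β i).map_smul c m }
  have H₁ : IsPullback a p' f (Spec.map (𝟙 A ≫ φ)) := by
    rw [Category.id_comp]
    exact H
  let γ : Fin n → (R.M →ₛₗ[(𝟙 A ≫ φ).hom] B) := fun i => 
    { toFun := fun m => φ g * α i m
      map_add' := fun x y => by rw [map_add, mul_add]
      map_smul' := fun c m => by
        rw [LinearMap.map_smulₛₗ, smul_eq_mul, smul_eq_mul, mul_left_comm]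
        rfl }
  have h1 : ∀ i, R.θ H₁ (γ i) = tr a (𝟙 X) a (Category.comp_id a) E (U := ⊤) (V := ⊤) le_top (R.θ H₀ (β' i)) := by
    intro i
    refine R.nat H₀ φ H₁ a (Category.comp_id a) H.w (β' i) (γ i) fun m => ?_
    exact (hβ i m).symm
  have h2 : ∀ i, R.θ H₁ (γ i) = scal p' (φ g) • e i := by
    intro i
    rw [← hα i, ← theta_smul R H]
    exact theta_congr R (Category.id_comp φ) H₁ H _ _ fun m => rfl
  have hu : IsUnit (scal p' (φ g)) := by
    have h3 : IsUnit (algebraMap A B g) := IsLocalization.map_units (M := p.asIdeal.primeCompl) B ⟨g, hg⟩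
    exact h3.map (scal p')
  have h3 : BasOn _ ⊤ (fun i => tr a (𝟙 X) a (Category.comp_id a) E (U := ⊤) (V := ⊤) le_top (R.θ H₀ (β' i))) := by
    simp only [← h1, h2]
    exact basOn_smul_of_isUnit _ hu he
  -- the open locus
  have hE' : FlatMod.IsFinLocFree ((Scheme.Modules.pullback (𝟙 X)).obj E) := isFinLocFree_pullback' _ hE
  have hO := isOpen_basAt hE' (fun i => R.θ H₀ (β' i))
  have hD : IsClosed (f.base '' {x : X | ∃ hx : x ∈ (⊤ : X.Opens), BasAt ((Scheme.Modules.pullback (𝟙 X)).obj E)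
      (fun i => R.θ H₀ (β' i)) x hx}ᶜ) := f.isClosedMap _ hO.isClosed_compl
  have hp : p ∉ f.base '' {x : X | ∃ hx : x ∈ (⊤ : X.Opens), BasAt ((Scheme.Modules.pullback (𝟙 X)).obj E)
      (fun i => R.θ H₀ (β' i)) x hx}ᶜ := by
    rintro ⟨x, hx, hxp⟩
    obtain ⟨z, hz1, -⟩ := Scheme.Pullback.exists_preimage_pullback (f := f) (g := Spec.map φ) x b
      (hxp.trans hb.symm)
    apply hx
    have h4 : a.base (H.isoPullback.inv.base z) = x := by
      have := congrArg (fun g : pullback f (Spec.map φ) ⟶ X => g.base z) H.isoPullback_inv_fst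
      exact this.trans hz1
    rw [← h4]
    exact ⟨trivial, basAt_of_tr (U := ⊤) (V := ⊤) le_top (w := H.isoPullback.inv.base z)
      (TopologicalSpace.Opens.mem_top _) hE' (h3.basAt (H.isoPullback.inv.base z) trivial)⟩
  let V : (Spec A).Opens := ⟨_, hD.isOpen_compl⟩
  have hV : ∀ x ∈ f ⁻¹ᵁ V, BasAt ((Scheme.Modules.pullback (𝟙 X)).obj E) (fun i => R.θ H₀ (β' i)) x trivial := by
    intro x hx
    by_contra hne
    exact hx ⟨x, fun h => hne h.2, rfl⟩
  have h5 : BasOn ((Scheme.Modules.pullback (𝟙 X)).obj E) (f ⁻¹ᵁ V)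
      (fun i => res _ (le_top : f ⁻¹ᵁ V ≤ ⊤) (R.θ H₀ (β' i))) := by
    rw [basOn_iff]
    intro x hx
    exact (basAt_res _ _ x hx).mpr (hV x hx)
  exact ⟨V, _, hp, h5.map_iso ((Scheme.Modules.pullbackId X).app E)⟩

end Affine

/-- Bases over the opens of an open subscheme of the base. -/
theorem exists_basOn_of_isOpenImmersion {X S X₁ S₁ : Scheme.{u}} {f : X ⟶ S} {f₁ : X₁ ⟶ S₁} {k : X₁ ⟶ X}
    {j : S₁ ⟶ S} (sq : IsPullback k f₁ f j) [IsOpenImmersion j] {E : X.Modules} {n : ℕ} (t : S₁) (V : S₁.Opens)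
    (ht : t ∈ V) (s : Fin n → Γ((Scheme.Modules.pullback k).obj E, f₁ ⁻¹ᵁ V)) (hs : BasOn _ _ s) :
    ∃ (V : S.Opens) (s : Fin n → Γ(E, f ⁻¹ᵁ V)), j.base t ∈ V ∧ BasOn E (f ⁻¹ᵁ V) s := by
  have hk : IsOpenImmersion k := MorphismProperty.of_isPullback sq.flip inferInstance
  have h1 := hs.map_iso ((Scheme.Modules.restrictFunctorIsoPullback k).app E).symm
  have h2 := (basOn_restrict_iff' _ k _ _).mp h1
  obtain ⟨s', hs'⟩ := (exists_basOn_congr (image_preimage_of_isPullback sq V)).mp ⟨_, h2⟩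
  exact ⟨j ''ᵁ V, s', ⟨t, ht, rfl⟩, hs'⟩

/-- **Spreading out a trivialisation** from the local scheme of the base at `s`. -/
theorem exists_nhd {X S : Scheme.{u}} (f : X ⟶ S) [Flat f] [IsProper f] [LocallyOfFinitePresentation f]
    {E : X.Modules} (hE : FlatMod.IsFinLocFree E) (s : S) {n : ℕ}
    (h : Nonempty ((Scheme.Modules.pullback (pullback.fst f (S.fromSpecStalk s))).obj E ≅
      FlatMod.freeMod (pullback f (S.fromSpecStalk s)) n)) :
    ∃ (V : S.Opens) (t : Fin n → Γ(E, f ⁻¹ᵁ V)), s ∈ V ∧ BasOn E (f ⁻¹ᵁ V) t := by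
  obtain ⟨W, hW, hsW, -⟩ := TopologicalSpace.Opens.isBasis_iff_nbhd.mp S.isBasis_affineOpens
    (show s ∈ (⊤ : S.Opens) from trivial)
  have hW' : IsAffineOpen W := hW
  obtain ⟨e, he⟩ := nonempty_iso_iff.mp h
  let j := hW'.fromSpec
  let φ := S.presheaf.germ W s hsW
  have hj : Spec.map φ ≫ j = S.fromSpecStalk s := hW'.fromSpecStalk_eq_fromSpecStalk hsW
  let f₁ := pullback.snd f j
  let E₁ := (Scheme.Modules.pullback (pullback.fst f j)).obj E
  have hE₁ : FlatMod.IsFinLocFree E₁ := isFinLocFree_pullback' _ hE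
  obtain ⟨R⟩ := Groth.Agent.Flat2F.RepH0.exists_repH0 f₁ E₁ hE₁
  have H₁ := IsPullback.of_hasPullback f₁ (Spec.map φ)
  have sq : IsPullback (pullback.fst f j) f₁ f j := IsPullback.of_hasPullback f j
  let k : pullback f₁ (Spec.map φ) ⟶ pullback f (S.fromSpecStalk s) :=
    pullback.lift (pullback.fst f₁ (Spec.map φ) ≫ pullback.fst f j) (pullback.snd f₁ (Spec.map φ)) (by
      rw [Category.assoc, sq.w, ← Category.assoc, H₁.w, Category.assoc, hj])
  have hk : k ≫ pullback.fst f (S.fromSpecStalk s) = pullback.fst f₁ (Spec.map φ) ≫ pullback.fst f j :=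
    pullback.lift_fst _ _ _
  have he₂ := basOn_tr (h := hk) (U := ⊤) (V := ⊤) le_top he
  have he₁ := he₂.map_iso (cmp (pullback.fst f₁ (Spec.map φ)) (pullback.fst f j) _ rfl E).symm
  have hloc := hW'.isLocalization_stalk ⟨s, hsW⟩
  obtain ⟨V, t, hpV, ht⟩ := exists_nhd_affine R hE₁ (hW'.primeIdealOf ⟨s, hsW⟩) (φ := φ) hloc H₁ _ he₁
    (IsLocalRing.closedPoint (S.presheaf.stalk s)) (hW'.primeIdealOf_eq_map_closedPoint ⟨s, hsW⟩).symm
  obtain ⟨V', t', h1, h2⟩ := exists_basOn_of_isOpenImmersion sq _ V hpV t ht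
  refine ⟨V', t', ?_, h2⟩
  have h3 : j.base (hW'.primeIdealOf ⟨s, hsW⟩) = s := hW'.fromSpec_primeIdealOf ⟨s, hsW⟩
  rwa [h3] at h1

end Groth.Agent.FlatMor.K255.SpreadBas
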